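import Groth.Agent.RedCartan.Field
import Groth.Agent.MTCentre.URZ
import Groth.Agent.Chev.NonAffTori

/-!
# Reductive group schemes have unipotent rank zero
-/

set_option autoImplicit false
set_option backward.isDefEq.respectTransparency false
set_option linter.style.haveILetI false

universe u

open CategoryTheory CategoryTheory.Limits MonoidalCategory CartesianMonoidalCategory MonObj GrpObj AlgebraicGeometry

noncomputable section

namespace Groth.Agent.RedCartan

/-- In a reductive group over an algebraically closed field a maximal torus is its own centralizer. -/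
theorem isCentralizerOf_self_algClosed {k : Type u} [Field k] [IsAlgClosed k] {G T : Over (Spec (CommRingCat.of k))}
    [GrpObj G] [GrpObj T] (hG : Red.IsReductiveOver k G) (iT : T ⟶ G) (hT : AGF.IsMaxTorus iT) :
    Red.IsCentralizerOf iT iT := by
  haveI := hT.1; haveI := hT.2.1; haveI := hG.1
  obtain ⟨C, _, c, hc, -, -⟩ := MTBridge.exists_centralizer T G
    (MTBridge.locally_of_isMultTypeFT' T (MTBridge.isMultTypeFT_of_isTorus T hT.2.2.1)) hG.2.1 inferInstance iT
  obtain ⟨tc, htc, he⟩ := isIso_to_centralizer hG iT hT c hc
  haveI := htc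
  exact isCentralizerOf_of_isIso hc tc he

variable {S : Scheme.{u}} {G : Over S} [GrpObj G]

/-- A reductive group scheme has connected fibres. -/
theorem isConnected_fibre_of_isReductive (hG : Red.IsReductive G) (t : S) :
    _root_.IsConnected (G.hom.base ⁻¹' {t}) :=
  haveI : ConnectedSpace ↥(Red.geomFibre t G).left := (hG.2.2 t).2.2.1
  TorusLift.isConnected_fibre_of_geom t

/-- A reductive group scheme has unipotent rank zero. -/
theorem unipotentRankZero_of_isReductive (hG : Red.IsReductive G) : SGA3x.UnipotentRankZero G := fun s _ _ i hi =>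
  isCentralizerOf_self_algClosed (hG.2.2 s) i (Chev.Borel.isMaxTorus_of_isMaximalTorus i hi)

/-- Maximal tori of a reductive group scheme are their own centralizers. -/
theorem centralizer_self_of_isReductive (hG : Red.IsReductive G) {T : Over S} [GrpObj T] (i : T ⟶ G)
    (hi : Red.IsMaximalTorus i) : Red.IsCentralizerOf i i :=
  haveI := hG.1; haveI := hG.2.1
  MTCentre.centralizer_self (isConnected_fibre_of_isReductive hG)
    (MTCentre.cartanIsTorus_of_urz (isConnected_fibre_of_isReductive hG) (unipotentRankZero_of_isReductive hG)) i hi

/-- The centre of a reductive group scheme exists, of multiplicative type. -/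
theorem exists_centre_of_isReductive (hG : Red.IsReductive G) :
    ∃ (Z : Over S) (_ : GrpObj Z) (z : Z ⟶ G), Red.IsCentre z ∧ IsClosedImmersion z.left ∧ SGA3x.IsMultTypeFT Z := by
  haveI := hG.1; haveI := hG.2.1
  have hconn := isConnected_fibre_of_isReductive hG
  have hu := unipotentRankZero_of_isReductive hG
  obtain ⟨Z, hZg, z, hzm, hzmono, hZ, hc, huniv⟩ :=
    MTCentre.exists_reductiveCentre hconn (MTCentre.redRankLocallyConstant_of_urz hconn hu)
  haveI := hzm; haveI := hzmono
  exact ⟨Z, hZg, z, MTCentre.isCentre_of_redCentre hconn hu z hc huniv,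
    MTBridge.isClosedImmersion_of_mono (MTBridge.locally_of_isMultTypeFT' Z hZ) inferInstance z, hZ⟩

end Groth.Agent.RedCartan
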