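import Groth.Agent.TorusLift.Rank
import Groth.Agent.MTCentre.URZ

/-!
# An etale split maximal torus near a point with a neighbourhood of constant reductive rank
-/

set_option autoImplicit false
set_option linter.style.haveILetI false
set_option backward.isDefEq.respectTransparency false
set_option maxHeartbeats 1000000
set_option synthInstance.maxHeartbeats 400000

universe u

open CategoryTheory Limits MonoidalCategory CartesianMonoidalCategory MonObj GrpObj AlgebraicGeometry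
open scoped CategoryTheory.Obj

noncomputable section

namespace Groth.Agent.TorusLift

open Groth.Agent.MTBridge Groth.Agent.Chev

variable {S : Scheme.{u}} {G : Over S} [GrpObj G] [IsAffineHom G.hom] [Smooth G.hom]

/-- A neighbourhood of constant reductive rank gives a maximal torus etale-locally. -/
theorem exists_etale_maxTorus_at (s : S) (U : S.Opens) (hsU : s ∈ U) (rk : WithBot ℕ∞)
    (hU : ∀ t : S, t ∈ U → SGA3x.HasRedRank G t rk) :
    ∃ (S' : Scheme.{u}) (e : S' ⟶ S) (r : ℕ) (j : Red.DS S' (Fin r → ℤ) ⟶ Red.bc e G),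
      Etale e ∧ s ∈ Set.range e.base ∧ Red.IsMaximalTorus j := by
  obtain ⟨_, ⟨V, hV, rfl⟩, hsV, hVU⟩ := S.isBasis_affineOpens.exists_subset_of_mem_open hsU U.2
  let GV := Red.bc hV.fromSpec G
  haveI : Smooth GV.hom := inferInstanceAs (Smooth (pullback.snd G.hom hV.fromSpec))
  haveI : IsAffineHom GV.hom := inferInstanceAs (IsAffineHom (pullback.snd G.hom hV.fromSpec))
  obtain ⟨v, hv⟩ : s ∈ Set.range hV.fromSpec.base := by rw [hV.range_fromSpec]; exact hsV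
  let K := AlgebraicClosure ((Spec Γ(S, V)).residueField v)
  let y : Spec (CommRingCat.of K) ⟶ S := Red.geomPt v ≫ hV.fromSpec
  have hy : y (IsLocalRing.closedPoint K) = s := by
    rw [Scheme.Hom.comp_apply, MTImage.geomPt_closedPoint]; exact hv
  obtain ⟨T₀, _, i₀, hi₀, hdim⟩ := hU s hsU
  obtain ⟨T, _, i, hi, hdimT⟩ := exists_maxTorus_of_point (Red.geomPt s) i₀ hi₀ y
    ((MTImage.geomPt_closedPoint s).trans hy.symm)
  let eG : Red.bc y G ≅ Red.bc (Red.geomPt v) GV := (Grp.forget _).mapIso (bcComp hV.fromSpec (Red.geomPt v) G)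
  haveI : IsMonHom eG.hom := (bcComp hV.fromSpec (Red.geomPt v) G).hom.hom.isMonHom_hom
  haveI := hi.1; haveI := hi.2.1
  haveI : Mono (i ≫ eG.hom) := mono_comp _ _
  haveI : Smooth (Red.bc (Red.geomPt v) GV).hom := inferInstanceAs (Smooth (pullback.snd GV.hom _))
  haveI : IsAffineHom (Red.bc (Red.geomPt v) GV).hom := inferInstanceAs (IsAffineHom (pullback.snd GV.hom _))
  haveI : IsAffine (Red.bc (Red.geomPt v) GV).left := isAffine_of_isAffineHom (Red.bc (Red.geomPt v) GV).hom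
  obtain ⟨r, jK, hjm, hjc, hjd⟩ := exists_split_closed (i ≫ eG.hom) hi.2.2.1
  obtain ⟨S₁, e₁, j₁, he₁, hv₁, hj₁m, hj₁c⟩ := exists_etale_subtorus_affine (R := Γ(S, V)) GV v r jK
  obtain ⟨v₁, hv₁⟩ := hv₁
  let e₂ : S₁ ⟶ S := e₁ ≫ hV.fromSpec
  haveI := he₁; haveI := hj₁m; haveI := hj₁c
  haveI := locallyOfFinitePresentation_of_isMultTypeFT _ (MTTorus.isMultTypeFT_DS S (Fin r → ℤ))
  haveI := flat_of_isMultTypeFT _ (MTTorus.isMultTypeFT_DS S (Fin r → ℤ))
  let d := fun t : S => topologicalKrullDim ↥((Red.DS S (Fin r → ℤ)).hom ⁻¹' {t})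
  obtain ⟨U₂, hU₂, hsU₂, hd⟩ := (IsLocallyConstant.iff_exists_open d).1 (GrpDim.isLocallyConstant_dim (Red.DS S (Fin r → ℤ))) s
  let W : S₁.Opens := e₂ ⁻¹ᵁ (U ⊓ ⟨U₂, hU₂⟩)
  have hv₁W : v₁ ∈ W := by
    show e₂ v₁ ∈ U ⊓ (⟨U₂, hU₂⟩ : S.Opens)
    rw [Scheme.Hom.comp_apply, hv₁, hv]
    exact ⟨hsU, hsU₂⟩
  let eW : (W : Scheme.{u}) ⟶ S := W.ι ≫ e₂
  haveI : Etale eW := inferInstance
  let j₂ := (bcDS W.ι (Fin r → ℤ)).inv ≫ (Over.pullback W.ι).mapGrp.map (Grp.homMk j₁ :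
      Grp.mk (Red.DS S₁ (Fin r → ℤ)) ⟶ Grp.mk (Red.bc e₁ GV)) ≫
    (bcMapIso W.ι (bcComp hV.fromSpec e₁ G)).inv ≫ (bcComp e₂ W.ι G).inv
  haveI : IsMonHom j₂.hom.hom := j₂.hom.isMonHom_hom
  haveI : IsClosedImmersion j₂.hom.hom.left := by
    haveI := isClosedImmersion_of_grpIso (bcDS W.ι (Fin r → ℤ)).symm
    haveI := isClosedImmersion_of_grpIso (bcMapIso W.ι (bcComp hV.fromSpec e₁ G)).symm
    haveI := isClosedImmersion_of_grpIso (bcComp e₂ W.ι G).symm
    haveI : IsClosedImmersion ((Over.pullback W.ι).map j₁).left :=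
      MorphismProperty.of_isPullback (P := @IsClosedImmersion) (MTImage.isPullback_map j₁ W.ι) hj₁c
    show IsClosedImmersion ((bcDS W.ι (Fin r → ℤ)).symm.hom.hom.hom.left ≫ ((Over.pullback W.ι).map j₁).left ≫
      (bcMapIso W.ι (bcComp hV.fromSpec e₁ G)).symm.hom.hom.hom.left ≫ (bcComp e₂ W.ι G).symm.hom.hom.hom.left)
    infer_instance
  refine ⟨W, eW, r, j₂.hom.hom, inferInstance, ⟨⟨v₁, hv₁W⟩, ?_⟩, isMaximalTorus_of_dim eW _ fun w => ?_⟩
  · show e₂ v₁ = s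
    rw [Scheme.Hom.comp_apply, hv₁, hv]
  · obtain ⟨hwU, hwU₂⟩ : eW w ∈ U ∧ eW w ∈ U₂ := w.2
    haveI := locallyOfFinitePresentation_of_isMultTypeFT _
      (MTTorus.isMultTypeFT_DS (W : Scheme.{u}) (Fin r → ℤ))
    have h : topologicalKrullDim ↥((Red.DS (W : Scheme.{u}) (Fin r → ℤ)).hom ⁻¹' {w}) = rk := by
      rw [← MTImage.dim_geomFibre _ w,
        dim_eq_of_grpIso (bcDS (Red.geomPt w) (Fin r → ℤ)),
        MTImage.dim_DS_point (Red.geomPt w ≫ eW) r, Scheme.Hom.comp_apply, MTImage.geomPt_closedPoint]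
      rw [show topologicalKrullDim ↥((Red.DS S (Fin r → ℤ)).hom ⁻¹' {eW w}) = _ from hd (eW w) hwU₂]
      rw [← hdim, hdimT, ← hjd, MTImage.dim_DS_point y r, hy]
    exact h.symm ▸ hU (eW w) hwU

end Groth.Agent.TorusLift
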