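import Groth.Agent.RedCartan.Fix
import Groth.Agent.Chev.Generate
import Groth.Agent.AgIsog.Kernel
import Groth.Agent.GrpComp.Identity
import Groth.Agent.WittUnip.Emb

/-!
# In a reductive group a maximal torus is its own centralizer

Over an algebraically closed field the part of the centralizer killed by the retraction to the torus fixes
every Borel subgroup; the subgroup generated by its conjugates is then normal, connected and without
subtori.
-/

set_option autoImplicit false
set_option backward.isDefEq.respectTransparency false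
set_option linter.style.haveILetI false

universe u

open CategoryTheory CategoryTheory.Limits MonoidalCategory CartesianMonoidalCategory MonObj GrpObj AlgebraicGeometry
open WithConv
open Groth.Agent.SubGen (rpt map_rpt exists_rpt)
open Groth.Agent.MTBridge (specGrp)

noncomputable section

namespace Groth.Agent.RedCartan

open Chev Chev.BorelFixed Chev.Borel

variable {k : Type u} [Field k] [IsAlgClosed k]

/-- A connected group with central maximal torus retracts onto it, characters being determined on the torus. -/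
theorem exists_central_retraction {C T : Over (Spec (CommRingCat.of k))} [GrpObj C] [GrpObj T] [IsAffine C.left]
    [Smooth C.hom] [ConnectedSpace C.left] (tc : T ⟶ C) (hT : AGF.IsMaxTorus tc)
    (hcent : ∀ (p : RP T) (g : RP C), g * (p ≫ tc) = (p ≫ tc) * g) :
    ∃ π : C ⟶ T, IsMonHom π ∧ tc ≫ π = 𝟙 T ∧
      ∀ (T' : Over (Spec (CommRingCat.of k))) [GrpObj T'] (f g : C ⟶ T') [IsMonHom f] [IsMonHom g], Red.IsTorus T' →
        tc ≫ f = tc ≫ g → f = g := by
  obtain ⟨B, hBg, iB, hB, hiso⟩ := exists_borel_iso_of_central tc hT hcent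
  haveI := hB.1; haveI := hiso
  haveI := hT.1
  haveI : IsMonHom (asIso iB).hom := hB.1
  haveI : IsMonHom (inv iB) := inferInstanceAs (IsMonHom (asIso iB).inv)
  haveI : IsMonHom (tc ≫ inv iB) := inferInstance
  obtain ⟨π, hπ, htπ, huniq⟩ := exists_retraction iB hB tc hT (tc ≫ inv iB) (by simp)
  haveI := hπ
  refine ⟨inv iB ≫ π, inferInstance, by rw [← Category.assoc]; exact htπ, fun T' _ f g _ _ hT' h => ?_⟩
  rw [← cancel_epi iB]
  exact huniq T' (iB ≫ f) (iB ≫ g) hT' (by simpa using h)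

/-- A representation with a line whose stabilizer is a given Borel subgroup. -/
theorem exists_borel_line {G B : Over (Spec (CommRingCat.of k))} [GrpObj G] [GrpObj B] [IsAffine G.left]
    [Smooth G.hom] [ConnectedSpace G.left] (iB : B ⟶ G) (hB : Red.IsBorelOver k iB)
    {A : Type u} [CommRing A] [HopfAlgebra k A] (e : (specGrp k A).X ≅ G) [IsMonHom e.hom] :
    ∃ (V : Type u) (_ : AddCommGroup V) (_ : Module k V) (_ : Module.Finite k V) (ρ : RP G →* Module.End k V) (v : V),
      v ≠ 0 ∧ IsRegular e ρ ∧ ∀ g : RP G, (∃ b : RP B, b ≫ iB = g) ↔ ∃ c : k, ρ g v = c • v := by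
  obtain ⟨hBm, hBc, hBs, hBconn, -, -⟩ := id hB
  haveI := hBm; haveI := hBc; haveI := hBs; haveI := hBconn
  haveI : IsAffine B.left := isAffine_of_isAffineHom iB.left
  obtain ⟨A', hA', e', he'⟩ := FinHopf.exists_hopf (R := CommRingCat.of k) B
  haveI := he'
  haveI : IsIso e.hom.left := inferInstanceAs (IsIso ((Over.forget _).map e.hom))
  haveI : IsIso e.inv.left := inferInstanceAs (IsIso ((Over.forget _).map e.inv))
  haveI : IsIso e'.hom.left := inferInstanceAs (IsIso ((Over.forget _).map e'.hom))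
  haveI : IsMonHom e.inv := inferInstance
  haveI : Algebra.FiniteType k A := by
    have h0 : LocallyOfFiniteType (e.hom.left ≫ G.hom) := inferInstance
    rw [Over.w e.hom] at h0
    exact RingHom.finiteType_algebraMap.1 ((HasRingHomProperty.Spec_iff (P := @LocallyOfFiniteType)).1 h0)
  let v₀ : (specGrp k A').X ⟶ (specGrp k A).X := e'.hom ≫ iB ≫ e.inv
  haveI : IsMonHom v₀ := by dsimp [v₀]; infer_instance
  obtain ⟨jh, hjh⟩ := MTBridge.exists_bialgHom v₀
  have hf : e'.hom.left ≫ iB.left = Spec.map (CommRingCat.ofHom (jh : A →ₐ[k] A').toRingHom) ≫ e.hom.left := by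
    rw [← Over.comp_left, show e'.hom ≫ iB = v₀ ≫ e.hom by simp [v₀], Over.comp_left, hjh]
  have hsurj : Function.Surjective jh := by
    haveI : IsClosedImmersion v₀.left := inferInstanceAs (IsClosedImmersion (e'.hom.left ≫ iB.left ≫ e.inv.left))
    let φ : CommRingCat.of A ⟶ CommRingCat.of A' := CommRingCat.ofHom (jh : A →ₐ[k] A').toRingHom
    haveI : IsClosedImmersion (Spec.map φ) := hjh ▸ ‹IsClosedImmersion v₀.left›
    have h := (IsClosedImmersion.isAffine_surjective_of_isAffine (Spec.map φ)).2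
    intro c
    obtain ⟨a, ha⟩ := h ((Scheme.ΓSpecIso _).inv c)
    refine ⟨(Scheme.ΓSpecIso (CommRingCat.of A)).hom a, ?_⟩
    show φ ((Scheme.ΓSpecIso _).hom a) = c
    rw [← CommRingCat.comp_apply, ← Scheme.ΓSpecIso_naturality, CommRingCat.comp_apply, ha,
      Iso.inv_hom_id_apply]
  have hptB : ∀ b : RP B, ProjRep.ptsEquiv e (b ≫ iB) = toConv ((ProjRep.ptsEquiv e' b).ofConv.comp (jh : A →ₐ[k] A')) :=
    fun b => ptsEquiv_comp e' e iB _ hf b
  let I : Ideal A := RingHom.ker jh
  haveI : I.IsHopfIdeal k := DiagUnip.isHopfIdeal_ker jh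
  obtain ⟨V, _, _, hcm, hfin, v, hv, hrep⟩ := Groth.Agent.S3019.result k A I
  haveI := hfin
  refine ⟨V, inferInstance, inferInstance, hfin, comodRep e, v, hv, isRegular_comodRep e, fun g => ?_⟩
  have h1 := hrep k (ProjRep.ptsEquiv e g).ofConv
  refine ⟨?_, fun ⟨c, hc⟩ => ?_⟩
  · rintro ⟨b, rfl⟩
    obtain ⟨c, hc⟩ := h1.1 fun a ha => by
      rw [hptB]
      show (ProjRep.ptsEquiv e' b).ofConv (jh a) = 0
      rw [RingHom.mem_ker.1 ha, map_zero]
    refine ⟨c, (TensorProduct.rid k V).symm.injective ?_⟩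
    show (TensorProduct.rid k V).symm (rho _ v) = _
    simp only [TensorProduct.rid_symm_apply, ← act_eq_rho, TensorProduct.smul_tmul, smul_eq_mul, _root_.mul_one]
    exact hc
  · have hI := h1.2 ⟨c, by
      show Takeuchi.act (ProjRep.ptsEquiv e g) v = _
      rw [act_eq_rho, show rho (ProjRep.ptsEquiv e g) v = c • v from hc, TensorProduct.smul_tmul, smul_eq_mul,
        _root_.mul_one]⟩
    let ψ : Takeuchi.Pt k A' k :=
      toConv (AlgHom.liftOfSurjective (jh : A →ₐ[k] A') hsurj (ProjRep.ptsEquiv e g).ofConv hI)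
    refine ⟨(ProjRep.ptsEquiv e').symm ψ, (ProjRep.ptsEquiv e).injective ?_⟩
    rw [hptB, MulEquiv.apply_symm_apply]
    exact WithConv.ext (AlgHom.liftOfSurjective_comp _ _ _ _)

/-- A maximal torus of a reductive group over an algebraically closed field is its own centralizer. -/
theorem isIso_to_centralizer {G T C : Over (Spec (CommRingCat.of k))} [GrpObj G] [GrpObj T] [GrpObj C]
    (hG : Red.IsReductiveOver k G) (iT : T ⟶ G) (hT : AGF.IsMaxTorus iT) (c : C ⟶ G)
    (hc : Red.IsCentralizerOf iT c) : ∃ tc : T ⟶ C, IsIso tc ∧ tc ≫ c = iT := by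
  classical
  obtain ⟨hGa, hGs, hGc, hrad⟩ := hG
  haveI := hGa; haveI := hGs; haveI := hGc
  obtain ⟨him, himono, hTt, -⟩ := id hT
  haveI := him; haveI := himono
  haveI := hc.1; haveI := hc.2.1
  obtain ⟨hCs, hCa, hCcl, hCconn, -, -, tc, htc, htmax, hcent⟩ := centralizer_maxTorus iT hT c hc
  haveI := hCs; haveI := hCa; haveI := hCcl; haveI := hCconn
  haveI := htmax.1
  refine ⟨tc, ?_, htc⟩
  obtain ⟨π, hπ, htπ, huniq⟩ := exists_central_retraction tc htmax hcent
  haveI := hπ
  haveI := isAffine_of_isTorus hTt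
  haveI := locallyOfFiniteType_of_isTorus hTt
  haveI : IsReduced C.left := SmoothRed.isReduced_of_smooth_scheme C.hom
  haveI : Smooth (C ⊗ C).hom := by
    show Smooth (pullback.fst C.hom C.hom ≫ C.hom)
    infer_instance
  haveI : IsReduced (C ⊗ C).left := SmoothRed.isReduced_of_smooth_scheme (C ⊗ C).hom
  -- the part killed by the retraction
  let u : C ⟶ C := 𝟙 C * (π ≫ tc)⁻¹
  have hu : ∀ z : RP C, z ≫ u = z * ((z ≫ π) ≫ tc)⁻¹ := fun z => by
    rw [MonObj.comp_mul, GrpObj.comp_inv, Category.comp_id, Category.assoc]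
  have hu1 : (1 : RP C) ≫ u = 1 := by rw [hu, MonObj.one_comp, MonObj.one_comp, inv_one, _root_.mul_one]
  haveI : IsMonHom u := by
    refine ⟨?_, ?_⟩
    · have h1 : (η[C] : 𝟙_ _ ⟶ C) = 1 := by rw [Hom.one_def, toUnit_one, Category.id_comp]
      rw [h1, hu1]
    · refine hom_ext_rp fun z => ?_
      have e1 : z ≫ μ[C] ≫ u = ((z ≫ fst C C) * (z ≫ snd C C)) ≫ u := by
        rw [← MonObj.comp_mul, Hom.mul_def, lift_fst_snd, Category.id_comp, Category.assoc]
      have e2 : z ≫ (u ⊗ₘ u) ≫ μ[C] = ((z ≫ fst C C) ≫ u) * ((z ≫ snd C C) ≫ u) := by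
        rw [Hom.mul_def, ← Category.assoc z]
        congr 1
        apply CartesianMonoidalCategory.hom_ext <;> simp
      rw [e1, e2, hu, hu, hu, MonObj.mul_comp, MonObj.mul_comp, _root_.mul_inv_rev]
      generalize z ≫ fst C C = a
      generalize z ≫ snd C C = b
      have h2 : Commute (b * ((b ≫ π) ≫ tc)⁻¹) ((a ≫ π) ≫ tc) := hcent (a ≫ π) _
      have h3 := h2.inv_right.eq
      rw [_root_.mul_assoc a (((a ≫ π) ≫ tc)⁻¹), ← h3]
      group
  have hut : ∀ p : RP T, (p ≫ tc) ≫ u = 1 := fun p => by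
    rw [hu, Category.assoc p tc π, htπ, Category.comp_id, mul_inv_cancel]
  -- coordinates, the representation and the fixed flag variety
  obtain ⟨A, hA, e, he⟩ := FinHopf.exists_hopf (R := CommRingCat.of k) G
  haveI := he
  obtain ⟨R, hR, e', he'⟩ := FinHopf.exists_hopf (R := CommRingCat.of k) C
  haveI := he'
  obtain ⟨B, hBg, iB, hB, X, aX, o, hX, -⟩ := exists_borel_proper G
  obtain ⟨hBm, hBc, hBs, hBconn, hBsol, -⟩ := id hB
  haveI := hBm; haveI := hBc; haveI := hBs; haveI := hBconn
  obtain ⟨V, _, _, hfin, ρ, v, hv, hρ, hline⟩ := exists_borel_line iB hB e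
  haveI := hfin
  have hK : IsZar (k := k) (cone ρ v) := isZar_cone iB hB aX o hX e hρ hv fun b => (hline _).1 ⟨b, rfl⟩
  haveI : IsMonHom (u ≫ c) := inferInstance
  have hcomm : ∀ (h : RP C) (t : RP T), (h ≫ u ≫ c) * (t ≫ iT) = (t ≫ iT) * (h ≫ u ≫ c) := fun h t => by
    rw [← Category.assoc h, ← htc, ← Category.assoc t, ← MonObj.mul_comp, ← MonObj.mul_comp, hcent]
  have hchar : ∀ θ : R, (∀ p q : RP C, (ProjRep.ptsEquiv e' (p * q)) θ = (ProjRep.ptsEquiv e' p) θ * (ProjRep.ptsEquiv e' q) θ) →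
      (∀ p : RP C, p ≫ u ≫ c = 1 → (ProjRep.ptsEquiv e' p) θ = 1) → ∀ p : RP C, (ProjRep.ptsEquiv e' p) θ = 1 :=
    fun θ hmul hker p => char_eq_one tc hTt π huniq htπ e' θ hmul (hker 1 (MonObj.one_comp _))
      (fun q => hker _ (by rw [← Category.assoc, hut, MonObj.one_comp])) p
  have hfix : ∀ (g : RP G) (h : RP C), ∃ b : RP B, b ≫ iB = g * (h ≫ u ≫ c) * g⁻¹ := by
    intro g h
    refine (hline _).2 ⟨1, ?_⟩
    have h1 := eq_self_of_commute iT hT iB hB e hρ hv hline hK e' (u ≫ c) hcomm hchar h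
      (rho_mem_cone ρ v (self_mem_cone ρ v) g⁻¹)
    rw [map_mul, map_mul, Module.End.mul_apply, Module.End.mul_apply, h1, one_smul]
    have h2 := rho_cancel ρ g⁻¹ v
    rwa [_root_.inv_inv] at h2
  -- the subgroup generated by the conjugates
  let F : G ⊗ C ⟶ G := fst G C * (snd G C ≫ u ≫ c) * (fst G C)⁻¹
  have hF : ∀ z : RP (G ⊗ C), z ≫ F = (z ≫ fst G C) * ((z ≫ snd G C) ≫ u ≫ c) * (z ≫ fst G C)⁻¹ := fun z => by
    rw [MonObj.comp_mul, MonObj.comp_mul, GrpObj.comp_inv, ← Category.assoc z (snd G C)]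
  haveI : Smooth (G ⊗ C).hom := by
    show Smooth (pullback.fst G.hom C.hom ≫ G.hom)
    infer_instance
  haveI : IsReduced (G ⊗ C).left := SmoothRed.isReduced_of_smooth_scheme (G ⊗ C).hom
  haveI : GeometricallyReduced (G ⊗ C).hom := Rigid.geometricallyReduced_of_smooth _
  haveI : ConnectedSpace (G ⊗ C).left := by
    haveI := GrpField.geometricallyIrreducible_of_connected G
    haveI := GrpField.geometricallyIrreducible_of_connected C
    haveI : UniversallyOpen G.hom := inferInstance
    haveI : UniversallyOpen C.hom := inferInstance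
    haveI : IrreducibleSpace C.left := GeometricallyIrreducible.irreducibleSpace C.hom C.hom.isOpenMap
    haveI : IrreducibleSpace (G ⊗ C).left := inferInstanceAs (IrreducibleSpace ↥(pullback G.hom C.hom))
    infer_instance
  obtain ⟨K, hKg, i, w, him', hic, hw, hd, ⟨F', hF'⟩, hmin⟩ := SubGen.exists_generated F
  haveI := him'; haveI := hic
  haveI : Mono i := GrpField.SchImg.mono_of_isClosedImmersion i
  haveI : LocallyOfFiniteType K.hom := by rw [← Over.w i]; infer_instance
  haveI : IsAffine K.left := isAffine_of_isAffineHom i.left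
  haveI := fun l => SubGen.geometricallyReduced_src (k := k) (G ⊗ C) l
  haveI : GeometricallyReduced K.hom := SubGen.geometricallyReduced_of_dense hd
  haveI : Smooth K.hom := by
    letI : GrpObj (Over.mk K.hom) := hKg
    exact smooth_of_grpObj K.hom
  -- connected
  haveI : ConnectedSpace K.left := by
    obtain ⟨K₀, hK₀, incl, hincl, hcl, -, hrange, hgi, -, -⟩ := GrpComp.exists_identity_subgroup (G := K)
    haveI := hincl; haveI := hcl
    have hF0 : ∀ z : RP (G ⊗ C), rpt (z ≫ F') ∈ Set.range incl.left := fun z => by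
      rw [hrange, ← map_rpt]
      let z₁ : RP (G ⊗ C) := lift 1 1
      have hz₁ : z₁ ≫ F' = 1 := by
        rw [← cancel_mono i, Category.assoc, hF', MonObj.one_comp, hF, lift_fst, lift_snd, MonObj.one_comp]
        simp
      have hsub : F'.left '' Set.univ ⊆ connectedComponent (GrpComp.ept K) :=
        (isPreconnected_univ.image _ F'.left.continuous.continuousOn).subset_connectedComponent
          ⟨rpt z₁, trivial, by rw [map_rpt, hz₁]; rw [show (1 : RP K) = η[K] by rw [Hom.one_def, toUnit_one, Category.id_comp]]; rfl⟩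
      exact hsub ⟨_, trivial, rfl⟩
    obtain ⟨G₀, hG₀⟩ := exists_lift_rp F' incl hF0
    haveI : IsClosedImmersion (incl ≫ i).left := inferInstanceAs (IsClosedImmersion (incl.left ≫ i.left))
    obtain ⟨l, hl⟩ := hmin K₀ hK₀ (incl ≫ i) inferInstance inferInstance ⟨G₀, by rw [← Category.assoc, hG₀, hF']⟩
    have hl' : l ≫ incl = 𝟙 K := (cancel_mono i).1 (by rw [Category.assoc, hl, Category.id_comp])
    refine connectedSpace_iff_univ.2 ?_
    have hr : Set.range incl.left = Set.univ := Set.eq_univ_of_forall fun x => ⟨l.left x, by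
      show (l ≫ incl).left x = x
      rw [hl']; rfl⟩
    rw [← hr, hrange]
    exact isConnected_connectedComponent
  haveI : IsReduced K.left := SmoothRed.isReduced_of_smooth_scheme K.hom
  -- normal
  have hnorm : AlgGrp.IsNormalHom i := by
    have hgen : ∀ g : RP G, ∃ l : K ⟶ K, l ≫ i = AGF.conjBy g i := by
      intro g
      haveI := isMonHom_conjBy g⁻¹ i
      haveI := isClosedImmersion_conjBy g⁻¹ i
      obtain ⟨l, hl⟩ := hmin K hKg (AGF.conjBy g⁻¹ i) inferInstance inferInstance
        ⟨lift ((toUnit _ ≫ g) * fst G C) (snd G C) ≫ F', by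
          rw [comp_conjBy, Category.assoc, hF']
          refine hom_ext_rp fun z => ?_
          simp only [MonObj.comp_mul, GrpObj.comp_inv, hF, ← Category.assoc z, comp_lift]
          simp only [Category.assoc, hF, lift_fst, lift_snd, MonObj.comp_mul, rp_const]
          group⟩
      refine ⟨l, ?_⟩
      rw [show AGF.conjBy g i = AGF.conjBy g (l ≫ AGF.conjBy g⁻¹ i) by rw [hl], ← comp_conjBy', conjBy_conjBy,
        mul_inv_cancel, conjBy_one]
    haveI : Smooth (G ⊗ K).hom := by
      show Smooth (pullback.fst G.hom K.hom ≫ G.hom)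
      infer_instance
    haveI : IsReduced (G ⊗ K).left := SmoothRed.isReduced_of_smooth_scheme (G ⊗ K).hom
    obtain ⟨n, hn⟩ := exists_lift_rp (fst G K * (snd G K ≫ i) * (fst G K)⁻¹) i fun z => by
      obtain ⟨l, hl⟩ := hgen (z ≫ fst G K)
      refine ⟨rpt ((z ≫ snd G K) ≫ l), ?_⟩
      rw [map_rpt, Category.assoc, hl, comp_conjBy, toUnit_one, Category.id_comp, MonObj.comp_mul, MonObj.comp_mul,
        GrpObj.comp_inv, Category.assoc]
    intro S g z
    refine ⟨lift g z ≫ n, ?_⟩
    rw [Category.assoc, hn, MonObj.comp_mul, MonObj.comp_mul, GrpObj.comp_inv, lift_fst, ← Category.assoc, lift_snd]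
  -- no subtori
  haveI : IsAffine B.left := isAffine_of_isAffineHom iB.left
  haveI : Mono iB := GrpField.SchImg.mono_of_isClosedImmersion iB
  haveI : Group.IsSolvable (RP B) := isSolvable_rp hBsol
  haveI : IsReduced B.left := SmoothRed.isReduced_of_smooth_scheme B.hom
  obtain ⟨T₀, _, iT₀, π₀, hiT₀, hπ₀, -, hsec, hT₀, htori, huniq₀⟩ := exists_section_torus B
  haveI := hiT₀; haveI := hπ₀
  obtain ⟨N, hNg, iN, hiN, hNm, hNpb, hN⟩ := AgIsog.exists_kernel π₀
  haveI := hiN; haveI := hNm
  haveI := isAffine_of_isTorus hT₀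
  haveI : IsClosedImmersion iN.left := by
    haveI : IsClosedImmersion (η[T₀] : 𝟙_ _ ⟶ T₀).left := by
      haveI : IsSeparated T₀.hom := inferInstance
      haveI : IsClosedImmersion ((η[T₀] : 𝟙_ _ ⟶ T₀).left ≫ T₀.hom) := by
        rw [Over.w η[T₀]]
        exact inferInstanceAs (IsClosedImmersion (𝟙 (Spec (CommRingCat.of k))))
      exact IsClosedImmersion.of_comp (η[T₀] : 𝟙_ _ ⟶ T₀).left T₀.hom
    exact MorphismProperty.of_isPullback (P := @IsClosedImmersion) hNpb.flip inferInstance
  obtain ⟨FB, hFB⟩ := exists_lift_rp F iB fun z => by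
    obtain ⟨b, hb⟩ := hfix (z ≫ fst G C) (z ≫ snd G C)
    exact ⟨rpt b, by rw [map_rpt, hb, hF]⟩
  have hFπ : FB ≫ π₀ = 1 := by
    haveI := locallyOfFiniteType_of_isTorus hT₀
    refine hom_ext_rp fun z => ?_
    rw [MonObj.comp_one]
    obtain ⟨ψ, hψ⟩ := exists_lift_rp (AGF.conjBy (z ≫ fst G C) (u ≫ c)) iB fun q => by
      obtain ⟨b, hb⟩ := hfix (z ≫ fst G C) q
      exact ⟨rpt b, by rw [map_rpt, hb, comp_conjBy, toUnit_one, Category.id_comp]⟩
    haveI := isMonHom_conjBy (z ≫ fst G C) (u ≫ c)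
    haveI : IsMonHom ψ := MTSplit.isMonHom_of_comp_mono ψ iB _ hψ
    haveI : IsMonHom (1 : C ⟶ T₀) := WittUnip.isMonHom_one C T₀
    have h0 : ψ ≫ π₀ = 1 := huniq T₀ (ψ ≫ π₀) 1 hT₀ (by
      haveI : IsReduced T.left := by
        haveI := smooth_of_isTorus hTt
        exact SmoothRed.isReduced_of_smooth_scheme T.hom
      refine hom_ext_rp fun p => ?_
      rw [MonObj.comp_one, MonObj.comp_one, ← Category.assoc p, ← Category.assoc (p ≫ tc)]
      rw [show (p ≫ tc) ≫ ψ = 1 from (cancel_mono iB).1 (by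
        rw [Category.assoc, hψ, comp_conjBy, toUnit_one, Category.id_comp, ← Category.assoc, hut, MonObj.one_comp,
          _root_.mul_one, mul_inv_cancel, MonObj.one_comp]), MonObj.one_comp])
    have hzb : z ≫ FB = (z ≫ snd G C) ≫ ψ := (cancel_mono iB).1 (by
      rw [Category.assoc, hFB, Category.assoc (z ≫ snd G C) ψ iB, hψ, hF, comp_conjBy, toUnit_one, Category.id_comp])
    rw [← Category.assoc, hzb, Category.assoc, h0, MonObj.comp_one]
  obtain ⟨FN, hFN⟩ := (hN _ FB).2 hFπ
  haveI : IsClosedImmersion (iN ≫ iB).left := inferInstanceAs (IsClosedImmersion (iN.left ≫ iB.left))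
  obtain ⟨kN, hkN⟩ := hmin N hNg (iN ≫ iB) inferInstance inferInstance ⟨FN, by rw [← Category.assoc, hFN, hFB]⟩
  haveI : Mono (iN ≫ iB) := mono_comp iN iB
  haveI : IsMonHom kN := MTSplit.isMonHom_of_comp_mono kN (iN ≫ iB) i hkN
  have hnt : Red.HasNoSubtorus k K := by
    intro S _ j _ _ hS
    haveI : Mono (kN ≫ iN) := by
      haveI : Mono ((kN ≫ iN) ≫ iB) := by rw [Category.assoc, hkN]; infer_instance
      exact mono_of_mono (kN ≫ iN) iB
    let jB : S ⟶ B := j ≫ kN ≫ iN
    haveI : IsMonHom jB := by dsimp [jB]; infer_instance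
    haveI : Mono jB := by dsimp [jB]; infer_instance
    have hjπ : jB ≫ π₀ = 1 := (hN S jB).1 ⟨j ≫ kN, by simp [jB]⟩
    obtain ⟨g, f, -, hf⟩ := htori S jB hS
    have hf1 : f = 1 := by
      have h1 := congrArg (fun m => m ≫ π₀) hf
      simp only [MonObj.mul_comp, GrpObj.inv_comp, Category.assoc, hsec, Category.comp_id] at h1
      rw [h1, hjπ, _root_.mul_one, mul_inv_cancel]
    have hj1 : jB = 1 := by
      have h1 : (toUnit S ≫ g) * jB * (toUnit S ≫ g)⁻¹ = 1 := by
        rw [hf1, MonObj.one_comp] at hf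
        exact hf.symm
      have h2 := mul_inv_eq_one.1 h1
      rwa [mul_eq_left] at h2
    have hid : 𝟙 S = 1 := (cancel_mono jB).1 (by rw [Category.id_comp, MonObj.one_comp, hj1])
    rw [Hom.one_def] at hid
    refine ⟨η[S].left, ?_, ?_⟩
    · have h := congrArg CommaMorphism.left hid
      simp only [Over.comp_left, Over.toUnit_left] at h
      exact h.symm
    · exact Over.w η[S]
  have hKtriv : IsIso K.hom := hrad K i hic inferInstance inferInstance hnorm hnt
  -- conclusion
  have hK1 : ∀ z : RP K, z = 1 := fun z => Over.OverMorphism.ext ((cancel_mono K.hom).1 ((Over.w z).trans (Over.w (1 : RP K)).symm))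
  have hu_all : ∀ h : RP C, h ≫ u = 1 := fun h => (cancel_mono c).1 (by
    rw [MonObj.one_comp, Category.assoc]
    have h1 : lift (1 : RP G) h ≫ F = h ≫ u ≫ c := by
      rw [hF, lift_fst, lift_snd, _root_.one_mul, inv_one, _root_.mul_one]
    rw [← h1, ← hF', ← Category.assoc, hK1 (lift 1 h ≫ F'), MonObj.one_comp])
  refine ⟨π, htπ, hom_ext_rp fun h => ?_⟩
  have h1 := hu_all h
  rw [hu, mul_inv_eq_one] at h1
  rw [Category.comp_id, ← Category.assoc]
  exact h1.symm

end Groth.Agent.RedCartan
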