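import Groth.Agent.RedCartan.Cartan
import Groth.Agent.Chev.CentDescend
import Groth.Agent.Chev.CentBC
import Groth.Agent.MTBridge.Centralizer
import Groth.Agent.RedR1.Gen
import Groth.Agent.Chev.NonAffTori

/-!
# Maximal tori of reductive groups over a field are the self-centralizing ones
-/

set_option autoImplicit false
set_option backward.isDefEq.respectTransparency false
set_option linter.style.haveILetI false

universe u

open CategoryTheory CategoryTheory.Limits MonoidalCategory CartesianMonoidalCategory MonObj GrpObj AlgebraicGeometry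

noncomputable section

namespace Groth.Agent.RedCartan

variable {k : Type u} [Field k]

/-- Being the centralizer transports along an isomorphism compatible with the inclusions. -/
theorem isCentralizerOf_of_isIso {S : Scheme.{u}} {G H Z : Over S} [GrpObj G] [GrpObj H] [GrpObj Z]
    {i : H ⟶ G} [IsMonHom i] [Mono i] {z : Z ⟶ G} (hz : Red.IsCentralizerOf i z) (t : H ⟶ Z) [IsIso t]
    (ht : t ≫ z = i) : Red.IsCentralizerOf i i := by
  refine ⟨inferInstance, inferInstance, fun X g => Iff.trans ?_ (hz.2.2 X g)⟩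
  refine ⟨fun ⟨h, hh⟩ => ⟨h ≫ t, by rw [Category.assoc, ht, hh]⟩, fun ⟨w, hw⟩ => ⟨w ≫ inv t, ?_⟩⟩
  rw [← ht, Category.assoc, IsIso.inv_hom_id_assoc, hw]

/-- A reductive group over a field is affine, smooth and connected. -/
theorem basic_of_isReductive {G : Over (Spec (CommRingCat.of k))} [GrpObj G] (hG : Red.IsReductive G) :
    IsAffine G.left ∧ Smooth G.hom ∧ ConnectedSpace G.left := by
  haveI := hG.1
  refine ⟨isAffine_of_isAffineHom G.hom, hG.2.1, ?_⟩
  let s : Spec (CommRingCat.of k) := IsLocalRing.closedPoint k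
  haveI : Subsingleton (Spec (CommRingCat.of k)) := inferInstanceAs (Subsingleton (PrimeSpectrum k))
  haveI : Surjective (Red.geomPt s) := ⟨fun x => ⟨IsLocalRing.closedPoint _, Subsingleton.elim _ _⟩⟩
  haveI : Surjective (pullback.fst G.hom (Red.geomPt s)) := MorphismProperty.pullback_fst _ _ ‹_›
  haveI : ConnectedSpace (pullback G.hom (Red.geomPt s) :) := (hG.2.2 s).2.2.1
  exact (pullback.fst G.hom (Red.geomPt s)).surjective.connectedSpace (pullback.fst G.hom (Red.geomPt s)).continuous

/-- A maximal torus of a reductive group over a field is isomorphic to its centralizer. -/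
theorem isIso_to_centralizer_field {G T C : Over (Spec (CommRingCat.of k))} [GrpObj G] [GrpObj T] [GrpObj C]
    (hG : Red.IsReductive G) (iT : T ⟶ G) (hT : Red.IsMaximalTorus iT) (c : C ⟶ G)
    (hc : Red.IsCentralizerOf iT c) : ∃ tc : T ⟶ C, IsIso tc ∧ tc ≫ c = iT := by
  obtain ⟨hGa, hGs, hGc⟩ := basic_of_isReductive hG
  haveI := hGa; haveI := hGs; haveI := hGc
  haveI := hc.1; haveI := hc.2.1
  haveI := hT.1; haveI := hT.2.1
  let s : Spec (CommRingCat.of k) := IsLocalRing.closedPoint k
  obtain ⟨-, -, -, hw, hT'⟩ := Chev.Borel.geom_setting iT hT s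
  haveI := hw
  haveI : PreservesLimitsOfShape WalkingCospan (Over.pullback (Red.geomPt s)) :=
    (Adjunction.rightAdjoint_preservesLimits (Over.mapPullbackAdj (Red.geomPt s))).preservesLimitsOfShape
  let F := Over.pullback (Red.geomPt s)
  have hc' := Chev.CentBC.isCentralizerOf_bc (Red.geomPt s) iT c hc
  obtain ⟨tc', htc', he⟩ := isIso_to_centralizer (k := AlgebraicClosure ((Spec (CommRingCat.of k)).residueField s))
    (hG.2.2 s) (F.map iT) hT' (F.map c) hc'
  obtain ⟨tc, htc⟩ := (hc.2.2 T iT).2 fun X x h => by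
    letI : CommGroup (X ⟶ T) := { (inferInstance : Group (X ⟶ T)) with mul_comm := RedR1.mul_comm_torus hT.2.2.1 }
    rw [← MonObj.mul_comp, ← MonObj.mul_comp, mul_comm]
  refine ⟨tc, ?_, htc⟩
  haveI : Mono (F.map c) := hc'.2.1
  haveI : IsIso (F.map tc) := by
    rw [show F.map tc = tc' from (cancel_mono (F.map c)).1 (by rw [← F.map_comp, htc, he])]
    exact htc'
  exact Chev.Borel.isIso_of_isIso_pullback (Red.geomPt s) tc

/-- Maximal tori of a reductive group over a field are their own centralizers. -/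
theorem isCentralizerOf_self {G T : Over (Spec (CommRingCat.of k))} [GrpObj G] [GrpObj T]
    (hG : Red.IsReductive G) (iT : T ⟶ G) (hT : Red.IsMaximalTorus iT) : Red.IsCentralizerOf iT iT := by
  haveI := hT.1; haveI := hT.2.1
  obtain ⟨C, _, c, hc, -, -⟩ := MTBridge.exists_centralizer T G
    (MTBridge.locally_of_isMultTypeFT' T (MTBridge.isMultTypeFT_of_isTorus T hT.2.2.1)) hG.2.1 hG.1 iT
  obtain ⟨tc, htc, he⟩ := isIso_to_centralizer_field hG iT hT c hc
  haveI := htc
  exact isCentralizerOf_of_isIso hc tc he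

/-- A self-centralizing subtorus is maximal. -/
theorem isMaximalTorus_of_isCentralizerOf_self {S : Scheme.{u}} {G T : Over S} [GrpObj G] [GrpObj T] (iT : T ⟶ G)
    (hT : Red.IsTorus T) (h : Red.IsCentralizerOf iT iT) : Red.IsMaximalTorus iT := by
  haveI := h.1; haveI := h.2.1
  refine ⟨h.1, h.2.1, hT, fun s T' _ j _ _ f hT' hf => ?_⟩
  haveI : PreservesLimitsOfShape WalkingCospan (Over.pullback (Red.geomPt s)) :=
    (Adjunction.rightAdjoint_preservesLimits (Over.mapPullbackAdj (Red.geomPt s))).preservesLimitsOfShape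
  have h' := Chev.CentBC.isCentralizerOf_bc (Red.geomPt s) iT iT h
  obtain ⟨g, hg⟩ := (h'.2.2 T' j).2 fun X x y => by
    rw [← hf, ← Category.assoc y]
    letI : CommGroup (X ⟶ T') := { (inferInstance : Group (X ⟶ T')) with mul_comm := RedR1.mul_comm_torus hT' }
    rw [← MonObj.mul_comp, ← MonObj.mul_comp, mul_comm]
  exact ⟨g, (cancel_mono ((Over.pullback (Red.geomPt s)).map iT)).1 (by rw [Category.assoc, hg, hf, Category.id_comp]),
    (cancel_mono j).1 (by rw [Category.assoc, hf, hg, Category.id_comp])⟩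

end Groth.Agent.RedCartan
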