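import Groth.Agent.Chev.CentSolv
import Groth.Agent.Assoc.Kernel
import Groth.Agent.GrpAct.Homog
import Mathlib.RingTheory.Nullstellensatz

/-!
# The cone over the orbit of a line with proper quotient is closed

For a coordinate-valued regular map `F` on a group `G`, equivariant on lines for a subgroup `B` with proper
quotient, the multiples of the values of `F` are cut out by polynomials: the complement of the locus of
collinearity has open image in `(G / B) × 𝔸ᵈ`, whose complement has closed image in `𝔸ᵈ`.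
-/

set_option autoImplicit false
set_option backward.isDefEq.respectTransparency false
set_option linter.style.haveILetI false

universe u

open CategoryTheory CategoryTheory.Limits MonoidalCategory CartesianMonoidalCategory MonObj GrpObj AlgebraicGeometry
open Groth.Agent.SubGen (rpt map_rpt exists_rpt rpt_injective rpt_mem_closedPoints)
open Groth.Agent.MTBridge (specGrp)

noncomputable section

namespace Groth.Agent.RedCartan

open Chev Chev.BorelFixed Chev.Borel

variable {k : Type u} [Field k] {d : ℕ}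

/-- Affine space of dimension `d`. -/
def affSpace (k : Type u) [Field k] (d : ℕ) : Over (Spec (CommRingCat.of k)) :=
  Over.mk (Spec.map (CommRingCat.ofHom (MvPolynomial.C : k →+* MvPolynomial (Fin d) k)))

/-- The rational point of affine space with given coordinates. -/
def affPt (y : Fin d → k) : RP (affSpace k d) :=
  Over.homMk (Spec.map (CommRingCat.ofHom (MvPolynomial.eval y))) (by
    show Spec.map _ ≫ Spec.map _ = 𝟙 _
    rw [← Spec.map_comp, ← CommRingCat.ofHom_comp, ← Spec.map_id]
    exact congrArg (fun h => Spec.map (CommRingCat.ofHom h)) (RingHom.ext fun c => MvPolynomial.eval_C c))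

theorem exists_affPt (p : RP (affSpace k d)) : ∃ y, affPt y = p := by
  let ψ : CommRingCat.of (MvPolynomial (Fin d) k) ⟶ CommRingCat.of k :=
    Spec.preimage (S := CommRingCat.of k) (R := CommRingCat.of (MvPolynomial (Fin d) k)) p.left
  have hψ : Spec.map ψ = p.left := Spec.map_preimage _
  have hw : CommRingCat.ofHom (MvPolynomial.C : k →+* MvPolynomial (Fin d) k) ≫ ψ = 𝟙 _ := by
    apply Spec.map_injective
    rw [Spec.map_comp, hψ, Spec.map_id]
    exact Over.w p
  refine ⟨fun i => ψ.hom (MvPolynomial.X i), Over.OverMorphism.ext ?_⟩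
  show Spec.map _ = p.left
  rw [← hψ]
  refine congrArg Spec.map (CommRingCat.hom_ext (MvPolynomial.ringHom_ext (fun c => ?_) fun i => ?_))
  · rw [CommRingCat.hom_ofHom, MvPolynomial.eval_C]
    exact (congrArg (fun h => h.hom c) hw).symm
  · rw [CommRingCat.hom_ofHom, MvPolynomial.eval_X]

theorem affPt_injective : Function.Injective (affPt (k := k) (d := d)) := fun y y' h => funext fun i => by
  have h1 : MvPolynomial.eval y = MvPolynomial.eval y' := by
    have := Spec.map_injective (congrArg (fun m : RP (affSpace k d) => m.left) h)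
    exact congrArg CommRingCat.Hom.hom this
  simpa using DFunLike.congr_fun h1 (MvPolynomial.X i)

/-- Evaluation of a coordinate function at a rational point given by an algebra homomorphism. -/
theorem appTop_specMap {R : Type u} [CommRing R] (φ : R →+* k) (r : R) :
    (Spec.map (CommRingCat.ofHom φ)).appTop ((Scheme.ΓSpecIso (CommRingCat.of R)).inv r) =
      (Scheme.ΓSpecIso (CommRingCat.of k)).inv (φ r) :=
  (ConcreteCategory.congr_hom (Scheme.ΓSpecIso_inv_naturality (CommRingCat.ofHom φ)) r).symm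

theorem rpt_mem_basicOpen {Z : Over (Spec (CommRingCat.of k))} (z : RP Z) (s : Γ(Z.left, ⊤)) (c : k)
    (h : z.left.appTop s = (Scheme.ΓSpecIso (CommRingCat.of k)).inv c) : rpt z ∈ Z.left.basicOpen s ↔ c ≠ 0 := by
  show z.left (IsLocalRing.closedPoint k) ∈ Z.left.basicOpen s ↔ _
  have e : z.left ⁻¹ᵁ Z.left.basicOpen s = (Spec (CommRingCat.of k)).basicOpen (z.left.appTop s) :=
    Scheme.preimage_basicOpen_top z.left s
  have e' : z.left (IsLocalRing.closedPoint k) ∈ Z.left.basicOpen s ↔
      (IsLocalRing.closedPoint k : PrimeSpectrum k) ∈ (Spec (CommRingCat.of k)).basicOpen (z.left.appTop s) := by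
    rw [← e]; rfl
  rw [e', h, basicOpen_eq_of_affine]
  show c ∉ IsLocalRing.maximalIdeal k ↔ _
  rw [IsLocalRing.maximalIdeal_eq_bot, Ideal.mem_bot]

variable [IsAlgClosed k]

/-- The multiples of the values of a line-equivariant map with proper quotient are cut out by polynomials. -/
theorem exists_separating {G B X : Over (Spec (CommRingCat.of k))} [GrpObj G] [GrpObj B] [IsAffine G.left]
    [Smooth G.hom] (iB : B ⟶ G) (aX : AlgGrp.Action G X) (o : RP X) (hX : AGF.IsQuotient iB X aX o)
    [IsProper X.hom] {A : Type u} [CommRing A] [HopfAlgebra k A] (e : (specGrp k A).X ≅ G) [IsMonHom e.hom]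
    (F : Fin d → A) (hne : ∀ g : RP G, ∃ i, (ProjRep.ptsEquiv e g) (F i) ≠ 0)
    (hB : ∀ (g : RP G) (b : RP B), ∃ c : k, ∀ i,
      (ProjRep.ptsEquiv e (g * (b ≫ iB))) (F i) = c * (ProjRep.ptsEquiv e g) (F i))
    (y : Fin d → k) (hy : ∀ (g : RP G) (c : k), y ≠ fun i => c * (ProjRep.ptsEquiv e g) (F i)) :
    ∃ f : MvPolynomial (Fin d) k,
      (∀ (g : RP G) (c : k), MvPolynomial.eval (fun i => c * (ProjRep.ptsEquiv e g) (F i)) f = 0) ∧
        MvPolynomial.eval y f ≠ 0 := by
  classical
  haveI := hX.1; haveI := hX.2.1; haveI := hX.2.2.1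
  let P := MvPolynomial (Fin d) k
  let Sd := affSpace k d
  haveI : LocallyOfFiniteType Sd.hom := by
    show LocallyOfFiniteType (Spec.map _)
    exact (HasRingHomProperty.Spec_iff (P := @LocallyOfFiniteType)).2
      (RingHom.finiteType_algebraMap.2 (inferInstanceAs (Algebra.FiniteType k (MvPolynomial (Fin d) k))))
  haveI : LocallyOfFiniteType (G ⊗ Sd).hom := by
    show LocallyOfFiniteType (pullback.fst G.hom Sd.hom ≫ G.hom)
    infer_instance
  haveI : LocallyOfFiniteType (X ⊗ Sd).hom := by
    show LocallyOfFiniteType (pullback.fst X.hom Sd.hom ≫ X.hom)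
    infer_instance
  haveI : JacobsonSpace (G ⊗ Sd).left := LocallyOfFiniteType.jacobsonSpace (G ⊗ Sd).hom
  haveI : JacobsonSpace (X ⊗ Sd).left := LocallyOfFiniteType.jacobsonSpace (X ⊗ Sd).hom
  -- the map to `X × 𝔸ᵈ` is open
  let π := aX.orbitMap o
  let q : G ⊗ Sd ⟶ X ⊗ Sd := π ▷ Sd
  haveI : LocallyOfFinitePresentation π.left := by
    haveI : IsLocallyNoetherian X.left := LocallyOfFiniteType.isLocallyNoetherian X.hom
    haveI : LocallyOfFiniteType π.left := by
      haveI : LocallyOfFiniteType (π.left ≫ X.hom) := by rw [Over.w]; infer_instance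
      exact locallyOfFiniteType_of_comp π.left X.hom
    infer_instance
  have hsq := Assoc.isPullback_whiskerRight (Z := Sd) π
  have hqopen : IsOpenMap q.left := by
    haveI : UniversallyOpen q.left := MorphismProperty.of_isPullback (P := @UniversallyOpen) hsq inferInstance
    exact q.left.isOpenMap
  -- the locus where the point is not a multiple of the value
  let a : Fin d → Γ((G ⊗ Sd).left, ⊤) := fun i =>
    (fst G Sd ≫ e.inv).left.appTop ((Scheme.ΓSpecIso (CommRingCat.of A)).inv (F i))
  let x : Fin d → Γ((G ⊗ Sd).left, ⊤) := fun i =>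
    (snd G Sd).left.appTop ((Scheme.ΓSpecIso (CommRingCat.of P)).inv (MvPolynomial.X i))
  let Mc : Set (G ⊗ Sd).left := ⋃ i, ⋃ j, ((G ⊗ Sd).left.basicOpen (x i * a j - x j * a i) : Set (G ⊗ Sd).left)
  have hMc : IsOpen Mc := isOpen_iUnion fun i => isOpen_iUnion fun j => ((G ⊗ Sd).left.basicOpen _).isOpen
  have hmem : ∀ (g : RP G) (z : Fin d → k), rpt (lift g (affPt z)) ∈ Mc ↔
      ∃ i j, z i * (ProjRep.ptsEquiv e g) (F j) - z j * (ProjRep.ptsEquiv e g) (F i) ≠ 0 := by
    intro g z
    let φ := ProjRep.ptsEquiv e g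
    have hgl : (g ≫ e.inv).left = Spec.map (CommRingCat.ofHom φ.ofConv.toRingHom) := by
      conv_lhs => rw [← (ProjRep.ptsEquiv e).symm_apply_apply g]
      show ((ProjRep.kIso k).hom.left ≫ Spec.map (CommRingCat.ofHom φ.ofConv.toRingHom) ≫ e.hom.left) ≫ e.inv.left = _
      rw [Category.assoc, Category.assoc, ← Over.comp_left, e.hom_inv_id, Over.id_left]
      erw [Category.comp_id]
      exact Category.id_comp _
    have ha : ∀ i, (lift g (affPt z)).left.appTop (a i) = (Scheme.ΓSpecIso (CommRingCat.of k)).inv (φ (F i)) := by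
      intro i
      show (lift g (affPt z)).left.appTop ((fst G Sd ≫ e.inv).left.appTop _) = _
      rw [← CommRingCat.comp_apply, ← Scheme.Hom.comp_appTop, ← Over.comp_left, lift_fst_assoc, hgl]
      exact appTop_specMap φ.ofConv.toRingHom (F i)
    have hx : ∀ i, (lift g (affPt z)).left.appTop (x i) = (Scheme.ΓSpecIso (CommRingCat.of k)).inv (z i) := by
      intro i
      show (lift g (affPt z)).left.appTop ((snd G Sd).left.appTop _) = _
      rw [← CommRingCat.comp_apply, ← Scheme.Hom.comp_appTop, ← Over.comp_left, lift_snd]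
      exact (appTop_specMap (MvPolynomial.eval z) (MvPolynomial.X i)).trans (by rw [MvPolynomial.eval_X])
    simp only [Mc, Set.mem_iUnion, SetLike.mem_coe]
    refine exists₂_congr fun i j => rpt_mem_basicOpen _ _ _ ?_
    simp only [map_sub, map_mul]
    erw [ha, ha, hx, hx]
  have hM : ∀ (g : RP G) (z : Fin d → k), rpt (lift g (affPt z)) ∉ Mc ↔
      ∃ c : k, z = fun i => c * (ProjRep.ptsEquiv e g) (F i) := by
    intro g z
    rw [hmem]
    push Not
    refine ⟨fun h => ?_, ?_⟩
    · obtain ⟨j, hj⟩ := hne g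
      refine ⟨z j / (ProjRep.ptsEquiv e g) (F j), funext fun i => ?_⟩
      have h' := sub_eq_zero.1 (h i j)
      field_simp
      linear_combination h'
    · rintro ⟨c, rfl⟩ i j
      ring
  have hqpt : ∀ (g : RP G) (z : Fin d → k), lift g (affPt z) ≫ q = lift (g ≫ π) (affPt z) := fun g z => by
    show lift g (affPt z) ≫ π ▷ Sd = _
    exact lift_whiskerRight g (affPt z) π
  have hpair : ∀ p : RP (G ⊗ Sd), ∃ g z, p = lift g (affPt z) := fun p => by
    obtain ⟨z, hz⟩ := exists_affPt (p ≫ snd G Sd)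
    exact ⟨p ≫ fst G Sd, z, by rw [hz]; exact (lift_comp_fst_snd p).symm⟩
  let O : Set (X ⊗ Sd).left := q.left '' Mc
  have hO : ∀ (g : RP G) (z : Fin d → k), rpt (lift (g ≫ π) (affPt z)) ∈ O → rpt (lift g (affPt z)) ∈ Mc := by
    rintro g z ⟨w, hw, hwq⟩
    by_contra hno
    have hcl : IsClosed (q.left ⁻¹' {rpt (lift (g ≫ π) (affPt z))}) :=
      (mem_closedPoints_iff.1 (rpt_mem_closedPoints _)).preimage q.left.continuous
    obtain ⟨w', ⟨hw', hwq'⟩, hwc⟩ := nonempty_inter_closedPoints (Z := Mc ∩ q.left ⁻¹' {rpt (lift (g ≫ π) (affPt z))})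
      ⟨w, hw, hwq⟩ (hMc.isLocallyClosed.inter hcl.isLocallyClosed)
    obtain ⟨p, rfl⟩ := exists_rpt hwc
    obtain ⟨g', z', rfl⟩ := hpair p
    rw [Set.mem_preimage, Set.mem_singleton_iff, map_rpt, hqpt] at hwq'
    have heq := rpt_injective hwq'
    have hz : z' = z := by
      have := congrArg (fun m => m ≫ snd X Sd) heq
      exact affPt_injective ((lift_snd _ _).symm.trans (this.trans (lift_snd _ _)))
    subst hz
    have hgo : g' ≫ π = g ≫ π :=
      (lift_fst _ _).symm.trans ((congrArg (fun m => m ≫ fst X Sd) heq).trans (lift_fst _ _))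
    obtain ⟨p', hp1, hp2⟩ := hX.2.2.2.exists_lift g g' hgo.symm
    have hg' : g' = g * ((p' ≫ snd G B) ≫ iB) := by
      rw [← hp2, ← hp1, Hom.mul_def, ← Category.assoc]
      congr 1
      apply CartesianMonoidalCategory.hom_ext <;> simp
    obtain ⟨c, hc⟩ := hB g (p' ≫ snd G B)
    rw [hmem] at hw'
    obtain ⟨i, j, hij⟩ := hw'
    obtain ⟨c', hc'⟩ := (hM g z').1 hno
    refine hij ?_
    rw [hg', hc, hc, hc']
    ring
  -- its complement has closed image
  let D : Set Sd.left := (snd X Sd).left '' Oᶜ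
  have hD : IsClosed D := by
    haveI : UniversallyClosed (snd X Sd).left := by
      show UniversallyClosed (pullback.snd X.hom Sd.hom)
      infer_instance
    exact (snd X Sd).left.isClosedMap _ (hqopen _ hMc).isClosed_compl
  have hline : ∀ (g : RP G) (c : k), rpt (affPt fun i => c * (ProjRep.ptsEquiv e g) (F i)) ∈ D := fun g c =>
    ⟨rpt (lift (g ≫ π) (affPt fun i => c * (ProjRep.ptsEquiv e g) (F i))),
      fun h => (hM g _).2 ⟨c, rfl⟩ (hO g _ h), by rw [map_rpt, lift_snd]⟩
  have hyD : rpt (affPt y) ∉ D := by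
    rintro ⟨w, hw, hwy⟩
    have hcl : IsClosed ((snd X Sd).left ⁻¹' {rpt (affPt y)}) :=
      (mem_closedPoints_iff.1 (rpt_mem_closedPoints _)).preimage (snd X Sd).left.continuous
    obtain ⟨w', ⟨hw', hwy'⟩, hwc⟩ := nonempty_inter_closedPoints (Z := Oᶜ ∩ (snd X Sd).left ⁻¹' {rpt (affPt y)})
      ⟨w, hw, hwy⟩ ((hqopen _ hMc).isClosed_compl.inter hcl).isLocallyClosed
    obtain ⟨p, rfl⟩ := exists_rpt hwc
    obtain ⟨g, hg⟩ := exists_rp_preimage π (p ≫ fst X Sd)
    rw [Set.mem_preimage, Set.mem_singleton_iff, map_rpt] at hwy'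
    have hp : p = lift (g ≫ π) (affPt y) := by
      rw [hg, ← rpt_injective hwy', lift_comp_fst_snd]
    have hno : rpt (lift g (affPt y)) ∉ Mc := fun h => hw' ⟨_, h, by rw [map_rpt, hqpt, hp]⟩
    obtain ⟨c, hc⟩ := (hM g y).1 hno
    exact hy g c hc
  obtain ⟨I, hI⟩ := (PrimeSpectrum.isClosed_iff_zeroLocus_ideal (R := P) D).1 hD
  have hker : ∀ (z : Fin d → k) (f : P), f ∈ (rpt (affPt z) : PrimeSpectrum P).asIdeal ↔ MvPolynomial.eval z f = 0 := by
    intro z f
    show MvPolynomial.eval z f ∈ IsLocalRing.maximalIdeal k ↔ _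
    rw [IsLocalRing.maximalIdeal_eq_bot, Ideal.mem_bot]
  have hyI : ¬ (I : Set P) ⊆ (rpt (affPt y) : PrimeSpectrum P).asIdeal := fun h => hyD (by rw [hI]; exact h)
  obtain ⟨f, hfI, hf⟩ := Set.not_subset.1 hyI
  refine ⟨f, fun g c => (hker _ f).1 ?_, fun h => hf ((hker y f).2 h)⟩
  have h := hline g c
  rw [hI] at h
  exact h hfI

end Groth.Agent.RedCartan
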