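import Groth.Agent.Chev.CentSolv
import Groth.Agent.MTBridge.Charts
import Mathlib.Algebra.Polynomial.Roots

/-!
# Regular representations of rational points and a regular cocharacter of a torus

A representation of the group of rational points whose matrix coefficients are regular functions; the
restriction to a torus is graded by one cocharacter whose graded pieces consist of eigenvectors.
-/

set_option autoImplicit false
set_option backward.isDefEq.respectTransparency false
set_option linter.style.haveILetI false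

universe u

open CategoryTheory CategoryTheory.Limits MonoidalCategory CartesianMonoidalCategory MonObj GrpObj AlgebraicGeometry
open TensorProduct WithConv
open Groth.Agent.Takeuchi (Pt act)
open Groth.Agent.MTBridge (specGrp)

noncomputable section

namespace Groth.Agent.RedCartan

open Chev Chev.BorelFixed Chev.Borel

variable {k : Type u} [Field k] {G : Over (Spec (CommRingCat.of k))} [GrpObj G] {A : Type u} [CommRing A]
  [HopfAlgebra k A] {V : Type u} [AddCommGroup V] [Module k V]

/-- The matrix coefficients of the operators are regular functions. -/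
def IsRegular (e : (specGrp k A).X ≅ G) [IsMonHom e.hom] (ρ : RP G →* Module.End k V) : Prop :=
  ∀ (l : V →ₗ[k] k) (w : V), ∃ a : A, ∀ g : RP G, (ProjRep.ptsEquiv e g) a = l (ρ g w)

/-- The representation of rational points given by a comodule. -/
def comodRep (e : (specGrp k A).X ≅ G) [IsMonHom e.hom] [HopfRep.Comod k A V] : RP G →* Module.End k V where
  toFun g := rho (ProjRep.ptsEquiv e g)
  map_one' := by rw [map_one, rho_one]; rfl
  map_mul' g h := by rw [map_mul, rho_mul]; rfl

theorem isRegular_comodRep (e : (specGrp k A).X ≅ G) [IsMonHom e.hom] [HopfRep.Comod k A V] :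
    IsRegular e (comodRep (V := V) e) := fun l w => ⟨mc l w, fun _ => apply_mc _ _ _⟩

/-- Pulling back coordinates along a homomorphism. -/
theorem exists_pullback_coords {H : Over (Spec (CommRingCat.of k))} [GrpObj H] {A' : Type u} [CommRing A']
    [HopfAlgebra k A'] (e : (specGrp k A).X ≅ G) [IsMonHom e.hom] (e' : (specGrp k A').X ≅ H) [IsMonHom e'.hom]
    (f : H ⟶ G) [IsMonHom f] :
    ∃ h : A →ₐ[k] A', ∀ (p : RP H) (a : A), (ProjRep.ptsEquiv e (p ≫ f)) a = (ProjRep.ptsEquiv e' p) (h a) := by
  haveI : IsMonHom e.inv := inferInstance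
  let v₀ : (specGrp k A').X ⟶ (specGrp k A).X := e'.hom ≫ f ≫ e.inv
  haveI : IsMonHom v₀ := by dsimp [v₀]; infer_instance
  obtain ⟨jh, hjh⟩ := MTBridge.exists_bialgHom v₀
  have hf : e'.hom.left ≫ f.left = Spec.map (CommRingCat.ofHom (jh : A →ₐ[k] A').toRingHom) ≫ e.hom.left := by
    rw [← Over.comp_left, show e'.hom ≫ f = v₀ ≫ e.hom by simp [v₀], Over.comp_left, hjh]
  exact ⟨(jh : A →ₐ[k] A'), fun p a => by rw [ptsEquiv_comp e' e f _ hf p]; rfl⟩

theorem IsRegular.comp {H : Over (Spec (CommRingCat.of k))} [GrpObj H] {A' : Type u} [CommRing A']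
    [HopfAlgebra k A'] {e : (specGrp k A).X ≅ G} [IsMonHom e.hom] {ρ : RP G →* Module.End k V} (hρ : IsRegular e ρ)
    (e' : (specGrp k A').X ≅ H) [IsMonHom e'.hom] (f : H ⟶ G) [IsMonHom f] [IsAlgClosed k] :
    IsRegular e' (ρ.comp (rpHom f)) := by
  intro l w
  obtain ⟨a, ha⟩ := hρ l w
  obtain ⟨h, hh⟩ := exists_pullback_coords e e' f
  exact ⟨h a, fun p => by rw [← hh, ha]; rfl⟩

/-- Distinct powers are linearly independent as functions on the units of an infinite field. -/
theorem eq_zero_of_sum_zpow [Infinite k] {I : Type*} (F : Finset I) (n : I → ℤ) (hn : Set.InjOn n F) (w : I → V)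
    (h : ∀ s : kˣ, ∑ m ∈ F, (s : k) ^ n m • w m = 0) {m : I} (hm : m ∈ F) : w m = 0 := by
  classical
  refine (Module.forall_dual_apply_eq_zero_iff k _).1 fun l => ?_
  let N : ℕ := ∑ i ∈ F, (n i).natAbs
  have hN : ∀ i ∈ F, 0 ≤ n i + N := fun i hi => by
    have : (n i).natAbs ≤ N := Finset.single_le_sum (f := fun i => (n i).natAbs) (fun _ _ => Nat.zero_le _) hi
    omega
  let p : Polynomial k := ∑ i ∈ F, Polynomial.C (l (w i)) * Polynomial.X ^ (n i + N).toNat
  have hp : p = 0 := by
    refine Polynomial.eq_zero_of_infinite_isRoot p (Set.Infinite.mono (fun s hs => ?_) (Set.finite_singleton (0 : k)).infinite_compl)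
    have hs0 : s ≠ 0 := hs
    have h0 := congrArg l (h (Units.mk0 s hs0))
    rw [map_sum, map_zero] at h0
    show Polynomial.eval s p = 0
    calc Polynomial.eval s p = s ^ (N : ℤ) * ∑ i ∈ F, s ^ n i * l (w i) := by
          rw [Polynomial.eval_finsetSum, Finset.mul_sum]
          refine Finset.sum_congr rfl fun i hi => ?_
          rw [Polynomial.eval_mul, Polynomial.eval_C, Polynomial.eval_pow, Polynomial.eval_X, ← zpow_natCast,
            Int.toNat_of_nonneg (hN i hi), zpow_add₀ hs0]
          ring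
      _ = 0 := by simpa [map_smul] using Or.inr h0
  have h1 := congrArg (fun q => Polynomial.coeff q (n m + N).toNat) hp
  simp only [p, Polynomial.finsetSum_coeff, Polynomial.coeff_C_mul, Polynomial.coeff_X_pow, mul_ite,
    mul_zero, Polynomial.coeff_zero] at h1
  rwa [Finset.sum_eq_single m (fun i hi hne => if_neg fun hh => hne (hn hi hm (by
    have h2 := hN i hi
    have h3 := hN m hm
    omega))) (fun h => absurd hm h), if_pos rfl, _root_.mul_one] at h1

/-- An additive functional separating a finite set of lattice points. -/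
theorem exists_injOn_hom (r : ℕ) (F : Finset (Fin r → ℤ)) : ∃ n : (Fin r → ℤ) →+ ℤ, Set.InjOn n F := by
  classical
  let P : (Fin r → ℤ) → Polynomial ℤ := fun d => ∑ i : Fin r, Polynomial.C (d i) * Polynomial.X ^ (i : ℕ)
  have hPc : ∀ (d : Fin r → ℤ) (i : Fin r), (P d).coeff i = d i := fun d i => by
    simp [P, Polynomial.coeff_X_pow, Fin.val_inj]
  let Q : Polynomial ℤ := ∏ x ∈ (F ×ˢ F).filter (fun x => x.1 ≠ x.2), P (x.1 - x.2)
  have hQ : Q ≠ 0 := Finset.prod_ne_zero_iff.2 fun x hx h0 => by
    refine (Finset.mem_filter.1 hx).2 (sub_eq_zero.1 (funext fun i => ?_))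
    rw [← hPc (x.1 - x.2) i, h0, Polynomial.coeff_zero]
    rfl
  obtain ⟨N, hN⟩ : ∃ N : ℤ, Q.eval N ≠ 0 := by
    by_contra hc
    push Not at hc
    exact hQ (Polynomial.funext fun N => by rw [hc, Polynomial.eval_zero])
  have hadd : ∀ a b, (P (a + b)).eval N = (P a).eval N + (P b).eval N := fun a b => by
    simp [P, Polynomial.eval_finsetSum, add_mul, Finset.sum_add_distrib]
  refine ⟨AddMonoidHom.mk' (fun d => (P d).eval N) hadd, fun a ha b hb hab => ?_⟩
  by_contra hne
  rw [Polynomial.eval_prod, Finset.prod_ne_zero_iff] at hN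
  refine hN (a, b) (Finset.mem_filter.2 ⟨Finset.mem_product.2 ⟨ha, hb⟩, hne⟩) ?_
  have hab' : (P a).eval N = (P b).eval N := hab
  simp [P, Polynomial.eval_finsetSum, sub_mul] at hab' ⊢
  rw [hab', sub_self]

variable [IsAlgClosed k] [Module.Finite k V]

/-- A torus acting through a regular representation is graded by a cocharacter with eigenvectors as pieces. -/
theorem exists_cochar {T : Over (Spec (CommRingCat.of k))} [GrpObj T] (hT : Red.IsTorus T) (iT : T ⟶ G) [IsMonHom iT]
    (e : (specGrp k A).X ≅ G) [IsMonHom e.hom] {ρ : RP G →* Module.End k V} (hρ : IsRegular e ρ) :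
    ∃ (J : Finset ℤ) (Q : ℤ → Module.End k V) (L : kˣ → RP T),
      (∀ (s : kˣ) (v : V), ρ (L s ≫ iT) v = ∑ j ∈ J, (s : k) ^ j • Q j v) ∧
      (∀ (s : kˣ), ∀ j ∈ J, ∀ v : V, ρ (L s ≫ iT) (Q j v) = (s : k) ^ j • Q j v) ∧
      (∀ (t : RP T), ∀ j ∈ J, ∃ c : k, ∀ v : V, ρ (t ≫ iT) (Q j v) = c • Q j v) := by
  classical
  obtain ⟨r, ⟨es⟩⟩ := exists_split_algClosed hT
  obtain ⟨e₃⟩ := MTBridge.nonempty_DS_iso k (Fin r → ℤ)
  let M := Multiplicative (Fin r → ℤ)
  let eg : specGrp k (MonoidAlgebra k M) ≅ Grp.mk T := (es ≪≫ e₃).symm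
  let eT : (specGrp k (MonoidAlgebra k M)).X ≅ T := (Grp.forget _).mapIso eg
  haveI : IsMonHom eT.hom := eg.hom.hom.isMonHom_hom
  obtain ⟨h, hh⟩ := exists_pullback_coords e eT iT
  let b := Module.finBasis k V
  choose a ha using fun i j => hρ (b.coord i) (b j)
  let x : Fin (Module.finrank k V) → Fin (Module.finrank k V) → MonoidAlgebra k M := fun i j => h (a i j)
  let F : Finset M := Finset.univ.biUnion fun i => Finset.univ.biUnion fun j => (x i j).coeff.support
  let P : M → Module.End k V := fun m => b.constr k fun j => ∑ i, (x i j).coeff m • b i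
  let χ : RP T → M → k := fun t m => (ProjRep.ptsEquiv eT t) (MonoidAlgebra.single m 1)
  have hdec : ∀ (t : RP T) (v : V), ρ (t ≫ iT) v = ∑ m ∈ F, χ t m • P m v := by
    intro t v
    have : ρ (t ≫ iT) = ∑ m ∈ F, χ t m • P m := by
      refine b.ext fun j => b.ext_elem fun i => ?_
      rw [LinearMap.sum_apply, map_sum, Finsupp.finsetSum_apply]
      have h1 : ∀ m, b.repr ((χ t m • P m) (b j)) i = χ t m * (x i j).coeff m := fun m => by
        simp [P, Module.Basis.constr_basis, Finsupp.single_apply]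
      simp only [h1]
      show b.coord i (ρ (t ≫ iT) (b j)) = _
      rw [← ha, hh]
      show (ProjRep.ptsEquiv eT t).ofConv (x i j) = _
      conv_lhs => rw [← MonoidAlgebra.sum_coeff_single (x i j)]
      rw [map_finsuppSum]
      refine (Finset.sum_subset (f := fun m => (ProjRep.ptsEquiv eT t).ofConv (MonoidAlgebra.single m ((x i j).coeff m)))
        (s₂ := F) (fun m hm => Finset.mem_biUnion.2 ⟨i, Finset.mem_univ _,
          Finset.mem_biUnion.2 ⟨j, Finset.mem_univ _, hm⟩⟩) fun m _ hm => ?_).trans (Finset.sum_congr rfl fun m _ => ?_)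
      · rw [Finsupp.notMem_support_iff.1 hm, MonoidAlgebra.single_zero, map_zero]
      · rw [show MonoidAlgebra.single m ((x i j).coeff m) = (x i j).coeff m • MonoidAlgebra.single m (1 : k) by simp,
          map_smul, smul_eq_mul, mul_comm]
    rw [this, LinearMap.sum_apply]
    rfl
  obtain ⟨n, hn⟩ := exists_injOn_hom r (F.image Multiplicative.toAdd)
  let nM : M → ℤ := fun m => n (Multiplicative.toAdd m)
  have hnM : Set.InjOn nM F := fun a ha b hb hab => Multiplicative.toAdd.injective
    (hn (Finset.mem_image_of_mem _ ha) (Finset.mem_image_of_mem _ hb) hab)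
  let L : kˣ → RP T := fun s => (ProjRep.ptsEquiv eT).symm (toConv (MonoidAlgebra.lift k k M
    ((Units.coeHom k).comp ((zpowersHom kˣ s).comp (AddMonoidHom.toMultiplicative n)))))
  have hL : ∀ s m, χ (L s) m = (s : k) ^ nM m := fun s m => by
    simp only [χ, L, MulEquiv.apply_symm_apply]
    show (MonoidAlgebra.lift k k M _) (MonoidAlgebra.single m 1) = _
    rw [MonoidAlgebra.lift_single, one_smul]
    show ((s ^ nM m : kˣ) : k) = _
    rw [Units.val_zpow_eq_zpow_val]
  have hχmul : ∀ (t t' : RP T) (m : M), χ (t * t') m = χ t m * χ t' m := fun t t' m => by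
    simp only [χ, map_mul]
    rw [AlgHom.convMul_apply, (MonoidAlgebra.isGroupLikeElem_single_one (R := k) (A := k) _).comul_eq_tmul_self,
      Algebra.TensorProduct.lift_tmul]
  have hP : ∀ (t : RP T), ∀ m ∈ F, ∀ v, ρ (t ≫ iT) (P m v) = χ t m • P m v := by
    intro t m hm v
    refine sub_eq_zero.1 (eq_zero_of_sum_zpow (k := k) F nM hnM (fun m => ρ (t ≫ iT) (P m v) - χ t m • P m v) (fun s => ?_) hm)
    simp only [smul_sub, Finset.sum_sub_distrib, smul_smul]
    have h1 : ρ (t ≫ iT) (ρ (L s ≫ iT) v) = ρ ((t * L s) ≫ iT) v := by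
      rw [MonObj.mul_comp, map_mul]; rfl
    rw [hdec (L s), map_sum, hdec (t * L s)] at h1
    rw [sub_eq_zero]
    refine ((Finset.sum_congr rfl fun m _ => ?_).trans h1).trans (Finset.sum_congr rfl fun m _ => ?_)
    · rw [hL, map_smul]
    · rw [hχmul, hL, mul_comm]
  let J := F.image nM
  let Q : ℤ → Module.End k V := fun j => ∑ m ∈ F.filter (fun m => nM m = j), P m
  have hQ : ∀ j v, Q j v = ∑ m ∈ F.filter (fun m => nM m = j), P m v := fun j v => LinearMap.sum_apply _ _ _
  refine ⟨J, Q, L, fun s v => ?_, fun s j _ v => ?_, fun t j hj => ?_⟩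
  · rw [hdec, ← Finset.sum_fiberwise_of_maps_to (g := nM) (t := J) (fun m hm => Finset.mem_image_of_mem _ hm)]
    refine Finset.sum_congr rfl fun j _ => ?_
    rw [hQ, Finset.smul_sum]
    exact Finset.sum_congr rfl fun m hm => by rw [hL, (Finset.mem_filter.1 hm).2]
  · rw [hQ, map_sum, Finset.smul_sum]
    refine Finset.sum_congr rfl fun m hm => ?_
    rw [hP _ m (Finset.mem_filter.1 hm).1, hL, (Finset.mem_filter.1 hm).2]
  · obtain ⟨m₀, hm₀, rfl⟩ := Finset.mem_image.1 hj
    refine ⟨χ t m₀, fun v => ?_⟩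
    rw [hQ, map_sum, Finset.smul_sum]
    refine Finset.sum_congr rfl fun m hm => ?_
    rw [hP _ m (Finset.mem_filter.1 hm).1, hnM (Finset.mem_filter.1 hm).1 hm₀ (Finset.mem_filter.1 hm).2]

end Groth.Agent.RedCartan
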