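import Groth.Agent.RedCartan.Closed
import Groth.Agent.RedCartan.Weights

/-!
# Closed cones: leading components and constancy of maps with invariant separating functionals

A closed cone stable under a cocharacter contains the leading weight component of each of its vectors. A
regular map into a closed cone along which a family of linear forms without common zero on the cone is
constant is itself constant.
-/

set_option autoImplicit false
set_option backward.isDefEq.respectTransparency false
set_option linter.style.haveILetI false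

universe u

open CategoryTheory CategoryTheory.Limits MonoidalCategory CartesianMonoidalCategory MonObj GrpObj AlgebraicGeometry
open Groth.Agent.MTBridge (specGrp)

noncomputable section

namespace Groth.Agent.RedCartan

open Chev Chev.BorelFixed Chev.Borel

variable {k : Type u} [Field k] {V : Type u} [AddCommGroup V] [Module k V] [Module.Finite k V]

/-- The multiples of the translates of a vector. -/
def cone {G : Over (Spec (CommRingCat.of k))} [GrpObj G] (ρ : RP G →* Module.End k V) (v : V) : Set V :=
  {y | ∃ (g : RP G) (c : k), y = c • ρ g v}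

theorem smul_mem_cone {G : Over (Spec (CommRingCat.of k))} [GrpObj G] (ρ : RP G →* Module.End k V) (v : V)
    {y : V} (hy : y ∈ cone ρ v) (c : k) : c • y ∈ cone ρ v := by
  obtain ⟨g, a, rfl⟩ := hy
  exact ⟨g, c * a, smul_smul _ _ _⟩

theorem rho_mem_cone {G : Over (Spec (CommRingCat.of k))} [GrpObj G] (ρ : RP G →* Module.End k V) (v : V)
    {y : V} (hy : y ∈ cone ρ v) (h : RP G) : ρ h y ∈ cone ρ v := by
  obtain ⟨g, a, rfl⟩ := hy
  exact ⟨h * g, a, by rw [map_smul, map_mul]; rfl⟩

theorem self_mem_cone {G : Over (Spec (CommRingCat.of k))} [GrpObj G] (ρ : RP G →* Module.End k V) (v : V) :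
    v ∈ cone ρ v := ⟨1, 1, by rw [map_one, one_smul]; rfl⟩

/-- Coordinates in a fixed basis. -/
def coo (y : V) : Fin (Module.finrank k V) → k := fun i => (Module.finBasis k V).coord i y

theorem coo_smul (c : k) (y : V) : coo (k := k) (c • y) = c • coo (k := k) y := funext fun i => by simp [coo]

theorem coo_injective : Function.Injective (coo (k := k) (V := V)) := fun y y' h =>
  (Module.finBasis k V).ext_elem fun i => congrFun h i

/-- A subset cut out by polynomials in the coordinates. -/
def IsZar (Z : Set V) : Prop :=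
  ∀ y, y ∉ Z → ∃ f : MvPolynomial (Fin (Module.finrank k V)) k,
    (∀ z ∈ Z, MvPolynomial.eval (coo z) f = 0) ∧ MvPolynomial.eval (coo y) f ≠ 0


/-- A linear form as a polynomial in the coordinates. -/
def linPoly (φ : V →ₗ[k] k) : MvPolynomial (Fin (Module.finrank k V)) k :=
  ∑ i, MvPolynomial.C (φ (Module.finBasis k V i)) * MvPolynomial.X i

theorem eval_linPoly (φ : V →ₗ[k] k) (y : V) : MvPolynomial.eval (coo y) (linPoly φ) = φ y := by
  conv_rhs => rw [← (Module.finBasis k V).sum_repr y, map_sum]
  simp [linPoly, coo, mul_comm]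

/-- The zero set of a family of linear forms in a closed set is closed. -/
theorem IsZar.inter_ker {Z : Set V} (hZ : IsZar (k := k) Z) (Φ : Set (V →ₗ[k] k)) :
    IsZar (k := k) {y ∈ Z | ∀ φ ∈ Φ, φ y = 0} := by
  intro y hy
  by_cases hyZ : y ∈ Z
  · simp only [Set.mem_setOf_eq, hyZ, true_and, not_forall] at hy
    obtain ⟨φ, hφ, hne⟩ := hy
    exact ⟨linPoly φ, fun z hz => by rw [eval_linPoly]; exact hz.2 φ hφ, by rwa [eval_linPoly]⟩
  · obtain ⟨f, hf, hfy⟩ := hZ y hyZ
    exact ⟨f, fun z hz => hf z hz.1, hfy⟩

/-- The leading component of a vector of a closed cone stable under a cocharacter lies in it. -/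
theorem exists_leading [Infinite k] {Z : Set V} (hZ : IsZar (k := k) Z) (hsmul : ∀ y ∈ Z, ∀ c : k, c • y ∈ Z)
    (J : Finset ℤ) (Q : ℤ → Module.End k V) (op : kˣ → Module.End k V)
    (hop : ∀ (s : kˣ) (v : V), op s v = ∑ j ∈ J, (s : k) ^ j • Q j v) (hstab : ∀ (s : kˣ), ∀ y ∈ Z, op s y ∈ Z)
    (hone : op 1 = 1) {y : V} (hy : y ∈ Z) (hy0 : y ≠ 0) :
    ∃ j₀ ∈ J, Q j₀ y ≠ 0 ∧ (∀ j ∈ J, j < j₀ → Q j y = 0) ∧ Q j₀ y ∈ Z := by
  classical
  have hne : (J.filter fun j => Q j y ≠ 0).Nonempty := by
    by_contra hc
    rw [Finset.not_nonempty_iff_eq_empty, Finset.filter_eq_empty_iff] at hc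
    refine hy0 ?_
    have h := hop 1 y
    rw [hone, Module.End.one_apply] at h
    rw [h]
    exact Finset.sum_eq_zero fun j hj => by rw [not_not.1 (hc hj), smul_zero]
  let j₀ := (J.filter fun j => Q j y ≠ 0).min' hne
  have hj₀ := Finset.mem_filter.1 ((J.filter fun j => Q j y ≠ 0).min'_mem hne)
  have hlow : ∀ j ∈ J, j < j₀ → Q j y = 0 := fun j hj hlt => by
    by_contra hc
    exact absurd (Finset.min'_le _ j (Finset.mem_filter.2 ⟨hj, hc⟩)) (not_le.2 hlt)
  refine ⟨j₀, hj₀.1, hj₀.2, hlow, ?_⟩
  by_contra hout
  obtain ⟨f, hf, hfy⟩ := hZ _ hout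
  let c : Fin (Module.finrank k V) → Polynomial k := fun i =>
    ∑ j ∈ J, Polynomial.C (coo (Q j y) i) * Polynomial.X ^ (j - j₀).toNat
  let p : Polynomial k := MvPolynomial.eval₂ Polynomial.C c f
  have hp : ∀ s : k, p.eval s = MvPolynomial.eval (fun i => (c i).eval s) f := fun s => by
    rw [← Polynomial.coe_evalRingHom, MvPolynomial.eval₂_comp_left (Polynomial.evalRingHom s)]
    have : (Polynomial.evalRingHom s).comp Polynomial.C = RingHom.id k := RingHom.ext fun a => Polynomial.eval_C
    rw [this]
    rfl
  have hc0 : ∀ (s : k) i, s ≠ 0 → (c i).eval s = coo ((s ^ (-j₀)) • ∑ j ∈ J, s ^ j • Q j y) i := by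
    intro s i hs
    rw [Finset.smul_sum]
    simp only [coo, map_sum, c, Polynomial.eval_finsetSum]
    refine Finset.sum_congr rfl fun j hj => ?_
    rw [Polynomial.eval_mul, Polynomial.eval_C, Polynomial.eval_pow, Polynomial.eval_X, smul_smul, map_smul,
      smul_eq_mul]
    rcases lt_or_ge j j₀ with hlt | hge
    · simp [hlow j hj hlt]
    · rw [← zpow_natCast, Int.toNat_of_nonneg (by omega), ← zpow_add₀ hs, show -j₀ + j = j - j₀ by ring,
        mul_comm]
  have hpzero : p = 0 := by
    refine Polynomial.eq_zero_of_infinite_isRoot p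
      (Set.Infinite.mono (fun s hs => ?_) (Set.finite_singleton (0 : k)).infinite_compl)
    have hs0 : s ≠ 0 := hs
    show p.eval s = 0
    rw [hp, funext fun i => hc0 s i hs0]
    refine hf _ (hsmul _ ?_ _)
    have h := hstab (Units.mk0 s hs0) y hy
    rw [hop] at h
    exact h
  refine hfy ?_
  have h0 := hp 0
  rw [hpzero, Polynomial.eval_zero] at h0
  rw [show coo (Q j₀ y) = fun i => (c i).eval 0 from funext fun i => ?_]
  · exact h0.symm
  simp only [c, Polynomial.eval_finsetSum, Polynomial.eval_mul, Polynomial.eval_C, Polynomial.eval_pow, Polynomial.eval_X]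
  rw [Finset.sum_eq_single j₀ (fun j hj hne => ?_) (fun h => absurd hj₀.1 h)]
  · simp
  rcases lt_or_ge j j₀ with hlt | hge
  · simp [coo, hlow j hj hlt]
  · rw [zero_pow (by omega), mul_zero]

theorem eval_smul_of_isHomogeneous {n d : ℕ} {f : MvPolynomial (Fin d) k} (hf : f.IsHomogeneous n) (c : k)
    (z : Fin d → k) : MvPolynomial.eval (c • z) f = c ^ n * MvPolynomial.eval z f := by
  rw [MvPolynomial.eval_eq, MvPolynomial.eval_eq, Finset.mul_sum]
  refine Finset.sum_congr rfl fun a ha => ?_
  simp only [Pi.smul_apply, smul_eq_mul, mul_pow, Finset.prod_mul_distrib, Finset.prod_pow_eq_pow_sum]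
  rw [← hf.degree_eq_sum_deg_support ha]
  ring

variable [IsAlgClosed k]

/-- A map into a closed cone along which separating linear forms are constant is constant. -/
theorem exists_const_coords {K : Set V} (hK : IsZar (k := k) K) (hcone : ∀ y ∈ K, ∀ c : k, c • y ∈ K)
    (Φ : Set (V →ₗ[k] k)) (hsep : ∀ y ∈ K, (∀ φ ∈ Φ, φ y = 0) → y = 0)
    {R : Type u} [CommRing R] [Algebra k R] [Algebra.FiniteType k R] [IsDomain R]
    (w : Fin (Module.finrank k V) → R)
    (hw : ∀ ψ : R →ₐ[k] k, ∃ y ∈ K, coo y = fun i => ψ (w i))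
    (hinv : ∀ φ ∈ Φ, ∃ c : k, ∀ (ψ : R →ₐ[k] k) (y : V), coo y = (fun i => ψ (w i)) → φ y = c) (i) :
    ∃ c : k, w i = algebraMap k R c := by
  classical
  let P := MvPolynomial (Fin (Module.finrank k V)) k
  let I : Ideal P := MvPolynomial.vanishingIdeal k (coo '' K)
  have hI : ∀ {f : P}, f ∈ I ↔ ∀ z ∈ K, MvPolynomial.eval (coo z) f = 0 := fun {f} => by
    rw [MvPolynomial.mem_vanishingIdeal_iff, Set.forall_mem_image]
    simp [MvPolynomial.aeval_eq_eval]
  -- the ideal is homogeneous
  have hIhom : ∀ f ∈ I, ∀ n, MvPolynomial.homogeneousComponent n f ∈ I := by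
    intro f hf n
    rw [hI]
    intro z hz
    let D := f.totalDegree + 1
    let q : Polynomial k := ∑ m ∈ Finset.range D,
      Polynomial.C (MvPolynomial.eval (coo z) (MvPolynomial.homogeneousComponent m f)) * Polynomial.X ^ m
    have hq : q = 0 := by
      refine Polynomial.funext fun s => ?_
      have h := hI.1 hf _ (hcone z hz s)
      rw [coo_smul, ← MvPolynomial.sum_homogeneousComponent f, map_sum] at h
      rw [Polynomial.eval_zero, Polynomial.eval_finsetSum, ← h]
      refine Finset.sum_congr rfl fun m _ => ?_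
      rw [Polynomial.eval_mul, Polynomial.eval_C, Polynomial.eval_pow, Polynomial.eval_X]
      rw [eval_smul_of_isHomogeneous (MvPolynomial.homogeneousComponent_isHomogeneous m f), mul_comm]
    by_cases hn : n < D
    · have h := congrArg (fun q => Polynomial.coeff q n) hq
      simpa [q, Polynomial.coeff_X_pow, hn] using h
    · rw [MvPolynomial.homogeneousComponent_eq_zero n f (by omega), map_zero]
  let J : Ideal P := I ⊔ Ideal.span (linPoly '' Φ)
  -- powers of the coordinates
  have hrad : ∀ i, ∃ N : ℕ, MvPolynomial.X i ^ N ∈ J := by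
    intro i
    have : (MvPolynomial.X i : P) ∈ J.radical := by
      rw [← MvPolynomial.vanishingIdeal_zeroLocus_eq_radical (k := k) (K := k) J, MvPolynomial.mem_vanishingIdeal_iff]
      intro x hx
      rw [MvPolynomial.mem_zeroLocus_iff] at hx
      let y : V := (Module.finBasis k V).equivFun.symm x
      have hxy : coo y = x := funext fun i => congrFun ((Module.finBasis k V).equivFun.apply_symm_apply x) i
      have hyK : y ∈ K := by
        by_contra hc
        obtain ⟨f, hf, hfy⟩ := hK y hc
        refine hfy ?_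
        rw [hxy, ← MvPolynomial.aeval_eq_eval]
        exact hx f (Submodule.mem_sup_left (hI.2 hf))
      have hy0 : y = 0 := hsep y hyK fun φ hφ => by
        rw [← eval_linPoly, hxy, ← MvPolynomial.aeval_eq_eval]
        exact hx _ (Submodule.mem_sup_right (Ideal.subset_span ⟨φ, hφ, rfl⟩))
      rw [MvPolynomial.aeval_X, ← hxy, hy0]
      simp [coo]
    exact this
  choose N₀ hN₀ using hrad
  let N : ℕ := (∑ i, N₀ i) + 1
  have hN : ∀ i, MvPolynomial.X i ^ N ∈ J := fun i => by
    have hle : N₀ i ≤ N := (Finset.single_le_sum (f := N₀) (fun _ _ => Nat.zero_le _) (Finset.mem_univ i)).trans (Nat.le_succ _)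
    rw [← Nat.add_sub_cancel' hle, pow_add]
    exact J.mul_mem_right _ (hN₀ i)
  let ev : P →ₐ[k] R := MvPolynomial.aeval w
  have hevI : ∀ f ∈ I, ev f = 0 := by
    intro f hf
    by_contra hne
    obtain ⟨ψ, hψ⟩ := UnitTensor.exists_point (k := k) hne
    obtain ⟨y, hy, hyc⟩ := hw ψ
    refine hψ ?_
    rw [show ψ (ev f) = MvPolynomial.aeval (fun i => ψ (w i)) f from DFunLike.congr_fun (MvPolynomial.comp_aeval w ψ) f]
    rw [MvPolynomial.aeval_eq_eval, ← hyc]
    exact hI.1 hf y hy
  have hevlin : ∀ φ ∈ Φ, ∃ c : k, ev (linPoly φ) = algebraMap k R c := by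
    intro φ hφ
    obtain ⟨c, hc⟩ := hinv φ hφ
    refine ⟨c, by_contra fun hne => ?_⟩
    obtain ⟨ψ, hψ⟩ := UnitTensor.exists_point (k := k) (sub_ne_zero.2 hne)
    obtain ⟨y, -, hyc⟩ := hw ψ
    refine hψ ?_
    rw [map_sub, AlgHom.commutes,
      show ψ (ev (linPoly φ)) = MvPolynomial.aeval (fun i => ψ (w i)) (linPoly φ) from DFunLike.congr_fun (MvPolynomial.comp_aeval w ψ) _]
    rw [MvPolynomial.aeval_eq_eval, ← hyc, eval_linPoly, hc ψ y hyc, Algebra.algebraMap_self, RingHom.id_apply, sub_self]
  -- components in the ideal drop degree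
  have hdrop : ∀ f ∈ J, ∀ n, ev (MvPolynomial.homogeneousComponent (n + 1) f) ∈
      (MvPolynomial.homogeneousSubmodule (Fin (Module.finrank k V)) k n).map ev.toLinearMap := by
    intro f hf n
    obtain ⟨f₁, h₁, f₂, h₂, rfl⟩ := Submodule.mem_sup.1 hf
    rw [map_add, map_add, hevI _ (hIhom f₁ h₁ _), zero_add]
    suffices ∀ g : P, g ∈ Ideal.span (linPoly '' Φ) → ∀ a : P, ev (MvPolynomial.homogeneousComponent (n + 1) (a * g)) ∈
        (MvPolynomial.homogeneousSubmodule (Fin (Module.finrank k V)) k n).map ev.toLinearMap by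
      simpa using this f₂ h₂ 1
    intro g hg
    induction hg using Submodule.span_induction with
    | zero => intro a; simp
    | add x y _ _ hx hy => intro a; rw [mul_add, map_add, map_add]; exact Submodule.add_mem _ (hx a) (hy a)
    | smul r x _ hx => intro a; rw [smul_eq_mul, ← _root_.mul_assoc]; exact hx _
    | mem x hx =>
      obtain ⟨φ, hφ, rfl⟩ := hx
      intro a
      have hlin : (linPoly φ).IsHomogeneous 1 :=
        MvPolynomial.IsHomogeneous.sum _ _ _ fun i _ => MvPolynomial.isHomogeneous_C_mul_X _ _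
      obtain ⟨c, hc⟩ := hevlin φ hφ
      have he : MvPolynomial.homogeneousComponent (n + 1) (a * linPoly φ) =
          MvPolynomial.homogeneousComponent n a * linPoly φ := by
        conv_lhs => rw [← MvPolynomial.sum_homogeneousComponent a, Finset.sum_mul, map_sum]
        have hterm : ∀ m, MvPolynomial.homogeneousComponent (n + 1) (MvPolynomial.homogeneousComponent m a * linPoly φ) =
            if m = n then MvPolynomial.homogeneousComponent m a * linPoly φ else 0 := fun m => by
          rw [MvPolynomial.homogeneousComponent_of_mem (((MvPolynomial.homogeneousComponent_isHomogeneous m a).mul hlin))]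
          rcases eq_or_ne m n with rfl | h
          · simp
          · rw [if_neg (by omega), if_neg h]
        simp only [hterm, Finset.sum_ite_eq', Finset.mem_range]
        split
        · rfl
        · rename_i h
          rw [MvPolynomial.homogeneousComponent_eq_zero n a (by omega), zero_mul]
      rw [he, map_mul, hc, mul_comm, ← Algebra.smul_def]
      exact Submodule.smul_mem _ _ (Submodule.mem_map_of_mem (f := ev.toLinearMap)
        (MvPolynomial.homogeneousComponent_mem n a))
  have hNX : ∀ i, ev (MvPolynomial.X i ^ N) ∈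
      (MvPolynomial.homogeneousSubmodule (Fin (Module.finrank k V)) k (∑ i, N₀ i)).map ev.toLinearMap := fun i => by
    have h := hdrop _ (hN i) (∑ i, N₀ i)
    rwa [MvPolynomial.homogeneousComponent_of_mem (MvPolynomial.isHomogeneous_X_pow i N), if_pos rfl] at h
  -- the image is spanned by the monomials in a box
  let M : Submodule k R := Submodule.span k
    (Set.range fun a : Fin (Module.finrank k V) → Fin N => ev (∏ i, MvPolynomial.X i ^ (a i : ℕ)))
  have hmono : ∀ (t : ℕ) (a : Fin (Module.finrank k V) →₀ ℕ), a.degree = t → ev (MvPolynomial.monomial a 1) ∈ M := by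
    intro t
    induction t using Nat.strong_induction_on with
    | _ t ih =>
      intro a ha
      by_cases hbox : ∀ i, a i < N
      · refine Submodule.subset_span ⟨fun i => ⟨a i, hbox i⟩, ?_⟩
        simp only
        rw [MvPolynomial.monomial_eq, map_one, _root_.one_mul, Finsupp.prod_fintype _ _ (fun i => pow_zero _)]
      push Not at hbox
      obtain ⟨i, hi⟩ := hbox
      let a' := a - Finsupp.single i N
      have ha' : a = Finsupp.single i N + a' := (add_tsub_cancel_of_le (Finsupp.single_le_iff.2 hi)).symm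
      have hdeg : a'.degree + N = t := by
        rw [← ha, ha', map_add, Finsupp.degree_single, add_comm]
      rw [ha', ← _root_.one_mul (1 : k), ← MvPolynomial.monomial_mul, map_mul, ← MvPolynomial.X_pow_eq_monomial]
      obtain ⟨g, hg, hgv⟩ := hNX i
      rw [← show ev g = ev (MvPolynomial.X i ^ N) from hgv, ← map_mul,
        MvPolynomial.as_sum g, Finset.sum_mul, map_sum]
      refine Submodule.sum_mem _ fun b hb => ?_
      rw [MvPolynomial.monomial_mul, _root_.mul_one, ← _root_.mul_one (MvPolynomial.coeff b g), ← smul_eq_mul, ← MvPolynomial.smul_monomial, map_smul]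
      refine Submodule.smul_mem _ _ (ih _ ?_ _ rfl)
      have hbd : b.degree = ∑ i, N₀ i := by
        have := MvPolynomial.IsHomogeneous.degree_eq_sum_deg_support hg hb
        rw [this, Finsupp.degree_apply]
      rw [map_add, hbd]
      omega
  have hall : ∀ f : P, ev f ∈ M := by
    intro f
    rw [MvPolynomial.as_sum f, map_sum]
    refine Submodule.sum_mem _ fun b _ => ?_
    rw [← _root_.mul_one (MvPolynomial.coeff b f), ← smul_eq_mul, ← MvPolynomial.smul_monomial, map_smul]
    exact Submodule.smul_mem _ _ (hmono _ b rfl)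
  haveI : Module.Finite k ev.range := by
    have hle : Subalgebra.toSubmodule ev.range ≤ M := by
      rintro _ ⟨f, rfl⟩
      exact hall f
    haveI : Module.Finite k M := Module.Finite.span_of_finite k (Set.finite_range _)
    exact Module.Finite.of_injective (Submodule.inclusion hle) (Submodule.inclusion_injective hle)
  have hint : IsIntegral k (w i) :=
    IsIntegral.of_mem_of_fg ev.range (Module.Finite.iff_fg.1 ‹_›) _ ⟨MvPolynomial.X i, MvPolynomial.aeval_X _ _⟩
  obtain ⟨c, hc⟩ := minpoly.mem_range_of_degree_eq_one k (w i)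
    (IsAlgClosed.degree_eq_one_of_irreducible k (minpoly.irreducible hint))
  exact ⟨c, hc.symm⟩

end Groth.Agent.RedCartan
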