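import Groth.Agent.MTCentre.Grading

/-!
# Centrality is detected by a fibrewise dense family of points
-/

set_option autoImplicit false
set_option linter.style.haveILetI false
set_option backward.isDefEq.respectTransparency false
set_option maxHeartbeats 1000000
set_option synthInstance.maxHeartbeats 400000

universe u

open CategoryTheory Limits MonoidalCategory CartesianMonoidalCategory MonObj GrpObj AlgebraicGeometry
open scoped CategoryTheory.Obj

noncomputable section

namespace Groth.Agent.RedCartan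

open Groth.Agent.MTBridge Groth.Agent.HomDiag Groth.Agent.MTQuot Groth.Agent.MTCentre

variable {S : Scheme.{u}} {M : Type} [AddCommGroup M] {G : Over S} [GrpObj G]

/-- **Points of a split torus commuting with a fibrewise dense family are central.** -/
theorem exists_nhd_central_of_family [IsAffine S] [AddGroup.FG M] [IsAffineHom G.hom] [Smooth G.hom]
    (hconn : ∀ t : S, _root_.IsConnected (G.hom.base ⁻¹' {t})) (i : Red.DS S M ⟶ G) [IsMonHom i] {J : Type*}
    (P : J → Over S) [∀ j, Smooth (P j).hom] (Φ : ∀ j, P j ⟶ G)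
    (hdense : ∀ (s : S) (V : G.left.Opens), (∃ q ∈ V, G.hom q = s) → ∃ (j : J) (p : (P j).left), (Φ j).left p ∈ V ∧ (P j).hom p = s)
    (s : S) :
    ∃ U : S.Opens, s ∈ U ∧ ∀ (X : Over S), Set.range X.hom ⊆ (U : Set S) → ∀ x : X ⟶ Red.DS S M,
      (∀ (X' : Over S) (p : X' ⟶ X) (j : J) (h : X' ⟶ P j),
        ((p ≫ x) ≫ i) * (h ≫ Φ j) = (h ≫ Φ j) * ((p ≫ x) ≫ i)) →
      ∀ g : X ⟶ G, (x ≫ i) * g = g * (x ≫ i) := by
  classical
  haveI : IsAffine G.left := isAffine_of_isAffineHom G.hom
  obtain ⟨U, Λ, hsU, hcen, hmin⟩ := exists_min_nhd hconn i s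
  obtain ⟨ρ, hρ, hsum, hwt⟩ := exists_coaction i
  let A : Type u := Γ(G.left, ⊤)
  have hft : (G.hom.appTop.hom).FiniteType :=
    (HasRingHomProperty.iff_of_isAffine (P := @LocallyOfFiniteType)).1 inferInstance
  letI : Algebra Γ(S, ⊤) A := G.hom.appTop.hom.toAlgebra
  obtain ⟨gens, hgens⟩ := (show Algebra.FiniteType Γ(S, ⊤) A from hft).out
  let good : Multiplicative M → Prop := fun m => ∃ a ∈ gens, ∃ q ∈ G.left.basicOpen ((ρ a).coeff m), G.hom q = s
  let Pm : Finset (Multiplicative M) := (gens.biUnion fun a => (ρ a).coeff.support).filter good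
  have hW : ∀ m : Multiplicative M, ∃ W : S.Opens, s ∈ W ∧ (good m → ∀ (Y : Over S) (x : Y ⟶ Red.DS S M),
      Set.range Y.hom ⊆ (W : Set S) → (∀ (X' : Over S) (p : X' ⟶ Y) (j : J) (h : X' ⟶ P j),
        ((p ≫ x) ≫ i) * (h ≫ Φ j) = (h ≫ Φ j) * ((p ≫ x) ≫ i)) → ch x m = 1) := fun m => by
    by_cases hm : good m
    swap
    · exact ⟨⊤, trivial, fun h => (hm h).elim⟩
    obtain ⟨a, ha, q, hq, hqs⟩ := hm
    let e := (ρ a).coeff m
    obtain ⟨j, q₁, hq₁, hq₁s⟩ := hdense s (G.left.basicOpen e) ⟨q, hq, hqs⟩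
    let V := (Φ j).left ⁻¹ᵁ G.left.basicOpen e
    refine ⟨⟨(P j).hom '' (V : Set (P j).left), (P j).hom.isOpenMap _ V.2⟩, ⟨q₁, hq₁, hq₁s⟩, fun _ Y x hY hx => ?_⟩
    let X' : Over S := Over.mk (pullback.fst Y.hom (V.ι ≫ (P j).hom) ≫ Y.hom)
    let p : X' ⟶ Y := Over.homMk (pullback.fst Y.hom (V.ι ≫ (P j).hom)) rfl
    let h : X' ⟶ P j := Over.homMk (pullback.snd Y.hom (V.ι ≫ (P j).hom) ≫ V.ι) (by
      show _ = pullback.fst Y.hom (V.ι ≫ (P j).hom) ≫ Y.hom
      rw [pullback.condition, Category.assoc])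
    let g : X' ⟶ G := h ≫ Φ j
    haveI : Surjective (pullback.fst Y.hom (V.ι ≫ (P j).hom)) := ⟨Set.range_eq_univ.1 (by
      rw [Scheme.Pullback.range_fst]
      refine Set.eq_univ_of_forall fun y => ?_
      obtain ⟨q', hq', hq''⟩ := hY ⟨y, rfl⟩
      exact ⟨⟨q', hq'⟩, hq''⟩)⟩
    haveI : Flat (V.ι ≫ (P j).hom) := inferInstance
    have hinj := AlgSpLib.appTop_injective_of_flat_surjective (pullback.fst Y.hom (V.ι ≫ (P j).hom))
    apply hinj
    rw [map_one]
    have hc := hρ X' (p ≫ x) g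
    rw [(conjPt_eq_iff i _ _).2 (hx X' p j h)] at hc
    have he := RingHom.congr_fun hc e
    rw [RingHom.comp_apply, hwt, ev_single, ch_comp] at he
    have hu : IsUnit (g.left.appTop e) := isUnit_appTop_of_range_subset g.left e (by
      rintro _ ⟨z, rfl⟩
      exact (pullback.snd Y.hom (V.ι ≫ (P j).hom) z).2)
    exact (hu.mul_left_cancel ((_root_.mul_one _).trans he)).symm
  choose W hsW hW using hW
  let L : AddSubgroup M := AddSubgroup.closure {m | Multiplicative.ofAdd m ∈ Pm}
  let k₀ : Spec (CommRingCat.of (S.residueField s)) ⟶ S := S.fromSpecResidueField s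
  have hk₀ : k₀ (IsLocalRing.closedPoint (S.residueField s)) = s := Scheme.fromSpecResidueField_apply ..
  have hle : Λ ≤ L := hmin _ k₀ (by rw [hk₀]; exact hsU) L fun X a ha x hx g => by
    rw [← conjPt_eq_iff]
    apply Over.OverMorphism.ext
    refine ext_of_isAffine (CommRingCat.hom_ext ?_)
    rw [hρ]
    have hsub : ∀ z : A, z ∈ Algebra.adjoin Γ(S, ⊤) (gens : Set A) → (ev x g).comp ρ z = g.left.appTop z :=
      fun z hz => by
      refine Algebra.adjoin_induction (fun b hb => ?_) (fun r => ?_) (fun p q _ _ hp hq => ?_)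
        (fun p q _ _ hp hq => ?_) hz
      · rw [RingHom.comp_apply]
        conv_rhs => rw [← hsum b]
        conv_lhs => rw [← MonoidAlgebra.sum_coeff_single (ρ b)]
        rw [map_finsuppSum, map_finsuppSum]
        refine Finsupp.sum_congr fun m hm => ?_
        rw [ev_single]
        by_cases hmg : good m
        · have hmP : m ∈ Pm := Finset.mem_filter.2 ⟨Finset.mem_biUnion.2 ⟨b, hb, hm⟩, hmg⟩
          rw [show ch x m = 1 from hx m.toAdd (AddSubgroup.subset_closure hmP), _root_.mul_one]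
        · have h0 : g.left.appTop ((ρ b).coeff m) = 0 := by
            have hl : pullback.lift g.left a (by rw [Over.w g, ha]) ≫ pullback.fst G.hom k₀ = g.left :=
              pullback.lift_fst _ _ _
            rw [← hl, Scheme.Hom.comp_appTop]
            show _root_.id ((pullback.lift g.left a _).appTop ((pullback.fst G.hom k₀).appTop ((ρ b).coeff m))) = 0
            rw [appTop_fst_eq_zero k₀ _ fun q hq hqk => hmg ⟨b, hb, q, hq, hqk.trans hk₀⟩, map_zero]
            rfl
          rw [h0, zero_mul]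
      · have e₁ : G.hom.appTop ≫ (conjPt i x g).left.appTop = X.hom.appTop := by
          rw [← Scheme.Hom.comp_appTop, Over.w]
        have e₂ : G.hom.appTop ≫ g.left.appTop = X.hom.appTop := by rw [← Scheme.Hom.comp_appTop, Over.w]
        rw [← hρ]
        exact (ConcreteCategory.congr_hom e₁ r).trans (ConcreteCategory.congr_hom e₂ r).symm
      · simp only [map_add, hp, hq]
      · simp only [map_mul, hp, hq]
    exact RingHom.ext fun z => hsub z (hgens ▸ Algebra.mem_top)
  refine ⟨U ⊓ Pm.inf W, ⟨hsU, Finset.inf_induction (p := fun V : S.Opens => s ∈ V) trivial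
    (fun _ h₁ _ h₂ => ⟨h₁, h₂⟩) fun m _ => hsW m⟩, fun X hX x hx =>
      hcen X (fun z hz => (hX hz).1) x ?_⟩
  intro m hm
  have hsubset : L ≤ (MonoidHom.toAdditiveRight (ch x)).ker := (AddSubgroup.closure_le _).2 fun n hn => by
    have hnP : Multiplicative.ofAdd n ∈ Pm := hn
    show MonoidHom.toAdditiveRight (ch x) n = 0
    exact congrArg Additive.ofMul (hW _ (Finset.mem_filter.1 hnP).2 X x
      (fun z hz => (Finset.inf_le hnP : Pm.inf W ≤ _) (hX hz).2) hx)
  exact congrArg Additive.toMul (hsubset (hle hm))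

end Groth.Agent.RedCartan
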