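import Groth.Agent.RedCartan.Cone
import Groth.Agent.Chev.WeylFinite
import Groth.Agent.Chev.Parabolic
import Groth.Agent.Chev.BorelNorm
import Groth.Agent.Chev.CentNilp

/-!
# Homomorphisms killing the torus and commuting with it act trivially on the flag variety

For a representation with a line whose stabiliser is a Borel subgroup, the extremal weight vectors give
linear forms which are eigenvectors for the commutant of the torus and have no common zero on the closed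
cone over the orbit.
-/

set_option autoImplicit false
set_option backward.isDefEq.respectTransparency false
set_option linter.style.haveILetI false

universe u

open CategoryTheory CategoryTheory.Limits MonoidalCategory CartesianMonoidalCategory MonObj GrpObj AlgebraicGeometry
open WithConv
open Groth.Agent.SubGen (rpt map_rpt)
open Groth.Agent.MTBridge (specGrp)

noncomputable section

namespace Groth.Agent.RedCartan

open Chev Chev.BorelFixed Chev.Borel

variable {k : Type u} [Field k] [IsAlgClosed k] {V : Type u} [AddCommGroup V] [Module k V] [Module.Finite k V]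
  {G B T : Over (Spec (CommRingCat.of k))} [GrpObj G] [GrpObj B] [GrpObj T] [IsAffine G.left] [Smooth G.hom]
  [ConnectedSpace G.left] {A : Type u} [CommRing A] [HopfAlgebra k A]

omit [IsAlgClosed k] [IsAffine G.left] [Smooth G.hom] [ConnectedSpace G.left] [Module.Finite k V] in
theorem rho_cancel (ρ : RP G →* Module.End k V) (g : RP G) (x : V) : ρ g⁻¹ (ρ g x) = x := by
  rw [← Module.End.mul_apply, ← map_mul, inv_mul_cancel, map_one, Module.End.one_apply]

omit [IsAlgClosed k] [IsAffine G.left] [Smooth G.hom] [ConnectedSpace G.left] [Module.Finite k V] in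
theorem rho_ne_zero (ρ : RP G →* Module.End k V) (g : RP G) {x : V} (hx : x ≠ 0) : ρ g x ≠ 0 := fun h => hx (by
  rw [← rho_cancel ρ g x, h, map_zero])

/-- A closed cone over the orbit of a line fixed by a subgroup with proper quotient. -/
theorem isZar_cone (iB : B ⟶ G) (hB : Red.IsBorelOver k iB) {X : Over (Spec (CommRingCat.of k))}
    (aX : AlgGrp.Action G X) (o : RP X) (hX : AGF.IsQuotient iB X aX o)
    (e : (specGrp k A).X ≅ G) [IsMonHom e.hom] {ρ : RP G →* Module.End k V} (hρ : IsRegular e ρ) {v : V} (hv : v ≠ 0)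
    (hline : ∀ b : RP B, ∃ c : k, ρ (b ≫ iB) v = c • v) : IsZar (k := k) (cone ρ v) := by
  haveI := isProper_quotient_borel iB hB aX o hX
  intro y hy
  choose F hF using fun i => hρ ((Module.finBasis k V).coord i) v
  have hF' : ∀ (c : k) (g : RP G), (fun i => c * (ProjRep.ptsEquiv e g) (F i)) = coo (k := k) (c • ρ g v) :=
    fun c g => funext fun i => by rw [hF, coo, map_smul]; rfl
  obtain ⟨f, hf, hfy⟩ := exists_separating iB aX o hX e F (fun g => by
    by_contra hc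
    push Not at hc
    exact rho_ne_zero ρ g hv ((Module.finBasis k V).ext_elem fun i => by
      rw [map_zero, Finsupp.zero_apply]
      exact (hF i g).symm.trans (hc i)))
    (fun g b => by
      obtain ⟨c, hc⟩ := hline b
      refine ⟨c, fun i => ?_⟩
      rw [hF, hF, map_mul, Module.End.mul_apply, hc, map_smul, map_smul, smul_eq_mul])
    (coo y) (fun g c h => hy ⟨g, c, coo_injective (h.trans (hF' c g))⟩)
  refine ⟨f, ?_, hfy⟩
  rintro _ ⟨g, c, rfl⟩
  rw [← hF']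
  exact hf g c

/-- Linear forms which are eigenvectors on the cone for everything commuting with the torus. -/
def CentEigen (iT : T ⟶ G) (ρ : RP G →* Module.End k V) (v : V) (φ : V →ₗ[k] k) : Prop :=
  ∀ h : RP G, (∀ t : RP T, h * (t ≫ iT) = (t ≫ iT) * h) → ∃ a : k, ∀ z ∈ cone ρ v, φ (ρ h z) = a * φ z

/-- A nonzero torus eigenvector in the cone is detected by a centralizer eigenform. -/
theorem exists_centEigen (iT : T ⟶ G) (hT : AGF.IsMaxTorus iT) (iB : B ⟶ G) (hB : Red.IsBorelOver k iB)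
    (e : (specGrp k A).X ≅ G) [IsMonHom e.hom] {ρ : RP G →* Module.End k V} (hρ : IsRegular e ρ) {v : V} (hv : v ≠ 0)
    (hline : ∀ g : RP G, (∃ b : RP B, b ≫ iB = g) ↔ ∃ c : k, ρ g v = c • v) (hK : IsZar (k := k) (cone ρ v))
    {y : V} (hy : y ∈ cone ρ v) (hy0 : y ≠ 0) (hye : ∀ t : RP T, ∃ c : k, ρ (t ≫ iT) y = c • y) :
    ∃ φ : V →ₗ[k] k, CentEigen iT ρ v φ ∧ φ y ≠ 0 := by
  classical
  obtain ⟨him, himono, hTt, -⟩ := id hT
  haveI := him; haveI := himono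
  obtain ⟨hBm, hBc, hBs, hBconn, -, -⟩ := id hB
  haveI := hBm; haveI := hBc; haveI := hBs; haveI := hBconn
  haveI := isAffine_of_isTorus hTt
  haveI := smooth_of_isTorus hTt
  haveI : IsReduced T.left := SmoothRed.isReduced_of_smooth_scheme T.hom
  haveI : Mono iB := GrpField.SchImg.mono_of_isClosedImmersion iB
  -- eigenlines come from Borel subgroups through the torus
  have hthru : ∀ g : RP G, (∀ t : RP T, ∃ c : k, ρ (t ≫ iT) (ρ g v) = c • ρ g v) →
      ∃ t' : T ⟶ B, t' ≫ AGF.conjBy g iB = iT := by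
    intro g hg
    haveI := isClosedImmersion_conjBy g iB
    refine exists_lift_rp iT (AGF.conjBy g iB) fun p => ?_
    obtain ⟨c, hc⟩ := hg p
    obtain ⟨b, hb⟩ := (hline (g⁻¹ * (p ≫ iT) * g)).2 ⟨c, by
      simp only [map_mul, Module.End.mul_apply, hc, map_smul, rho_cancel]⟩
    refine ⟨rpt b, ?_⟩
    rw [map_rpt, comp_conjBy, toUnit_one, Category.id_comp, hb]
    congr 1
    group
  -- two such lines differ by the normalizer
  have hconj : ∀ g₀ g : RP G, (∀ t : RP T, ∃ c : k, ρ (t ≫ iT) (ρ g₀ v) = c • ρ g₀ v) →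
      (∀ t : RP T, ∃ c : k, ρ (t ≫ iT) (ρ g v) = c • ρ g v) →
      ∃ n : RP G, (∀ p : RP T, (∃ p' : RP T, n * (p ≫ iT) * n⁻¹ = p' ≫ iT) ∧
          (∃ p' : RP T, n⁻¹ * (p ≫ iT) * n = p' ≫ iT)) ∧ ∃ c : k, c ≠ 0 ∧ ρ n (ρ g₀ v) = c • ρ g v := by
    intro g₀ g h₀ h
    obtain ⟨t₀, ht₀⟩ := hthru g₀ h₀
    obtain ⟨t₁, ht₁⟩ := hthru g h
    obtain ⟨n, f, f', hf, hf'⟩ := borelPair_conj (AGF.conjBy g₀ iB) (AGF.conjBy g iB) (isBorelOver_conjBy g₀ iB hB)
      (isBorelOver_conjBy g iB hB) iT iT hT hT t₀ ht₀ t₁ ht₁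
    have key : ∀ q : RP T, (q ≫ f'.hom) ≫ iT = n * (q ≫ iT) * n⁻¹ := fun q => by
      rw [Category.assoc, hf', comp_conjBy, toUnit_one, Category.id_comp]
    refine ⟨n, fun p => ⟨⟨_, (key p).symm⟩, ⟨p ≫ f'.inv, ?_⟩⟩, ?_⟩
    · have h1 := key (p ≫ f'.inv)
      rw [Category.assoc p f'.inv f'.hom, Iso.inv_hom_id, Category.comp_id] at h1
      rw [h1]
      group
    rw [conjBy_conjBy] at hf
    obtain ⟨b, hb⟩ := mem_borel_of_normalizes iB hB (g⁻¹ * (n * g₀)) fun b => ⟨b ≫ f.hom, by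
      have h1 := congrArg (fun m => b ≫ m) hf
      simp only [comp_conjBy, toUnit_one, Category.id_comp] at h1
      calc (b ≫ f.hom) ≫ iB = g⁻¹ * (g * ((b ≫ f.hom) ≫ iB) * g⁻¹) * g := by group
        _ = _ := by rw [Category.assoc b f.hom iB, h1]; group⟩
    obtain ⟨c, hc⟩ := (hline _).1 ⟨b, hb⟩
    refine ⟨c, fun h0 => rho_ne_zero ρ _ hv (hc.trans (by rw [h0, zero_smul])), ?_⟩
    rw [← Module.End.mul_apply, ← map_mul, ← map_smul, ← hc, ← Module.End.mul_apply, ← map_mul, mul_inv_cancel_left]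
  obtain ⟨gy, ay, rfl⟩ := hy
  have hay : ay ≠ 0 := fun h => hy0 (by rw [h, zero_smul])
  have hgy : ∀ t : RP T, ∃ c : k, ρ (t ≫ iT) (ρ gy v) = c • ρ gy v := fun t => by
    obtain ⟨c, hc⟩ := hye t
    rw [map_smul, smul_comm] at hc
    exact ⟨c, smul_right_injective V hay hc⟩
  -- finitely many eigenlines
  obtain ⟨C, _, c, hc, W, hW⟩ := exists_finite_weyl iT hTt
  have hcommC : ∀ z : RP C, ∀ t : RP T, (z ≫ c) * (t ≫ iT) = (t ≫ iT) * (z ≫ c) := fun z t => by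
    have h := (hc.2.2 (𝟙_ _) (z ≫ c)).1 ⟨z, rfl⟩ (𝟙_ _) (𝟙 _) t
    simpa only [Category.id_comp] using h
  have hfin : ∀ g : RP G, (∀ t : RP T, ∃ c : k, ρ (t ≫ iT) (ρ g v) = c • ρ g v) →
      ∃ m ∈ W, ∃ a : k, ρ g v = a • ρ m (ρ gy v) := by
    intro g hg
    obtain ⟨n, hn, b, hb0, hb⟩ := hconj gy g hgy hg
    obtain ⟨m, hm, z, rfl⟩ := hW n hn
    obtain ⟨t', ht'⟩ := hthru gy hgy
    obtain ⟨f, hf⟩ := centralizer_le_borel iT hT c hc (AGF.conjBy gy iB) (isBorelOver_conjBy gy iB hB) t' ht'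
    obtain ⟨a, ha⟩ := (hline ((z ≫ f) ≫ iB)).1 ⟨_, rfl⟩
    have hz : z ≫ c = gy * ((z ≫ f) ≫ iB) * gy⁻¹ := by
      rw [← hf, ← Category.assoc, comp_conjBy, toUnit_one, Category.id_comp]
    refine ⟨m, hm, b⁻¹ * a, ?_⟩
    rw [← inv_smul_smul₀ hb0 (ρ g v), ← hb, hz]
    simp only [map_mul, Module.End.mul_apply, rho_cancel, ha, map_smul, smul_smul]
  -- the regular cocharacter
  obtain ⟨J, Q, L, hop, hQL, hQe⟩ := exists_cochar hTt iT e hρ
  let op : kˣ → Module.End k V := fun s => ρ (L s ≫ iT)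
  have hone : ∀ x, ∑ j ∈ J, Q j x = x := fun x => by
    have h := hop 1 x
    have h1 : ρ (L 1 ≫ iT) x = ∑ j ∈ J, Q j x := h.trans (Finset.sum_congr rfl fun j _ => by simp)
    have h2 : ρ (L 1 ≫ iT) (∑ j ∈ J, Q j x) = ∑ j ∈ J, Q j x := by
      rw [map_sum]
      exact Finset.sum_congr rfl fun j hj => by rw [hQL 1 j hj x]; simp
    rw [← h1] at h2 ⊢
    have h3 := congrArg (ρ (L 1 ≫ iT)⁻¹) h2
    rwa [rho_cancel, rho_cancel] at h3
  have hop1 : op 1 = 1 := LinearMap.ext fun x => by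
    rw [Module.End.one_apply]
    exact ((hop 1 x).trans (Finset.sum_congr rfl fun j _ => by simp)).trans (hone x)
  have hidem : ∀ i ∈ J, ∀ x, Q i (Q i x) = Q i x := by
    intro i hi x
    have h := eq_zero_of_sum_zpow (k := k) J id Function.injective_id.injOn
      (fun j => Q j (Q i x) - if j = i then Q i x else 0) (fun s => ?_) hi
    · simpa [sub_eq_zero] using h
    · simp only [id, smul_sub, Finset.sum_sub_distrib, ← hop, hQL s i hi, smul_ite, smul_zero, Finset.sum_ite_eq', if_pos hi,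
        sub_self]
  have hcommQ : ∀ h : RP G, (∀ t : RP T, h * (t ≫ iT) = (t ≫ iT) * h) → ∀ j ∈ J, ∀ x, Q j (ρ h x) = ρ h (Q j x) := by
    intro h hh j hj x
    refine sub_eq_zero.1 (eq_zero_of_sum_zpow (k := k) J id Function.injective_id.injOn
      (fun j => Q j (ρ h x) - ρ h (Q j x)) (fun s => ?_) hj)
    have h1 : ∑ j ∈ J, (s : k) ^ j • ρ h (Q j x) = ρ h (ρ (L s ≫ iT) x) := by
      rw [hop, map_sum]
      exact Finset.sum_congr rfl fun j _ => (LinearMap.map_smul _ _ _).symm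
    simp only [id, smul_sub, Finset.sum_sub_distrib]
    rw [← hop, h1, ← Module.End.mul_apply, ← Module.End.mul_apply, ← map_mul, ← map_mul, hh, sub_self]
  -- the lowest weight meeting the cone
  have hlead : ∀ g : RP G, ∃ j₀ ∈ J, Q j₀ (ρ g v) ≠ 0 ∧ (∀ j ∈ J, j < j₀ → Q j (ρ g v) = 0) ∧
      Q j₀ (ρ g v) ∈ cone ρ v := fun g =>
    exists_leading hK (fun z hz c => smul_mem_cone ρ v hz c) J Q op (fun s x => hop s x)
      (fun s z hz => rho_mem_cone ρ v hz _) hop1 (rho_mem_cone ρ v (self_mem_cone ρ v) g) (rho_ne_zero ρ g hv)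
  let J' := J.filter fun j => ∃ g : RP G, Q j (ρ g v) ≠ 0
  have hJ' : J'.Nonempty := by
    obtain ⟨j, hj, hne, -⟩ := hlead 1
    exact ⟨j, Finset.mem_filter.2 ⟨hj, 1, hne⟩⟩
  let j₀ := J'.min' hJ'
  obtain ⟨hj₀, g₁, hg₁⟩ := Finset.mem_filter.1 (J'.min'_mem hJ')
  have hval : ∀ g : RP G, ∃ m ∈ W, ∃ a : k, Q j₀ (ρ g v) = a • ρ m (ρ gy v) := by
    intro g
    by_cases h0 : Q j₀ (ρ g v) = 0
    · obtain ⟨m, hm, -⟩ := hfin gy hgy
      exact ⟨m, hm, 0, by rw [h0, zero_smul]⟩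
    obtain ⟨j, hj, hne, hlow, hmem⟩ := hlead g
    have hjj : j = j₀ := le_antisymm (not_lt.1 fun hlt => h0 (hlow j₀ hj₀ hlt))
      (Finset.min'_le _ j (Finset.mem_filter.2 ⟨hj, g, hne⟩))
    subst hjj
    obtain ⟨g', a, ha⟩ := hmem
    have ha0 : a ≠ 0 := fun h => hne (ha.trans (by rw [h, zero_smul]))
    obtain ⟨m, hm, a', ha'⟩ := hfin g' fun t => by
      obtain ⟨b, hb⟩ := hQe t _ hj₀
      refine ⟨b, smul_right_injective V ha0 ?_⟩
      show a • ρ (t ≫ iT) (ρ g' v) = a • b • ρ g' v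
      rw [← map_smul, ← ha, hb, ha, smul_comm]
    exact ⟨m, hm, a * a', by rw [ha, ha', smul_smul]⟩
  -- the image is irreducible, hence in one line
  obtain ⟨v₁, hv₁⟩ : ∃ v₁ : V, ∀ g : RP G, ∃ a : k, Q j₀ (ρ g v) = a • v₁ := by
    by_contra hc
    push Not at hc
    haveI : IsIso e.hom.left := inferInstanceAs (IsIso ((Over.forget _).map e.hom))
    haveI : IsDomain A := isDomain_of_smooth_connected e
    haveI : Algebra.FiniteType k A := by
      have h0 : LocallyOfFiniteType (e.hom.left ≫ G.hom) := inferInstance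
      rw [Over.w e.hom] at h0
      exact RingHom.finiteType_algebraMap.1 ((HasRingHomProperty.Spec_iff (P := @LocallyOfFiniteType)).1 h0)
    have hsep : ∀ m : RP G, ∃ a : A, a ≠ 0 ∧ ∀ g : RP G, (∃ b : k, Q j₀ (ρ g v) = b • ρ m (ρ gy v)) →
        (ProjRep.ptsEquiv e g) a = 0 := by
      intro m
      obtain ⟨g, hg⟩ := hc (ρ m (ρ gy v))
      have hnot : Q j₀ (ρ g v) ∉ Submodule.span k {ρ m (ρ gy v)} := fun h => by
        obtain ⟨b, hb⟩ := Submodule.mem_span_singleton.1 h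
        exact hg b hb.symm
      obtain ⟨l, hl, hl0⟩ := Submodule.exists_le_ker_of_notMem hnot
      obtain ⟨a, ha⟩ := hρ (l ∘ₗ Q j₀) v
      refine ⟨a, fun h0 => hl ?_, fun g' ⟨b, hb⟩ => ?_⟩
      · have := ha g
        rw [h0] at this
        exact this.symm.trans (map_zero (ProjRep.ptsEquiv e g).ofConv)
      · rw [ha]
        show l (Q j₀ (ρ g' v)) = 0
        rw [hb, map_smul, LinearMap.mem_ker.1 (hl0 (Submodule.mem_span_singleton_self _)), smul_zero]
    choose a ha0 ha using hsep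
    have hprod : ∏ m ∈ W, a m = 0 := by
      by_contra hne
      obtain ⟨ψ, hψ⟩ := UnitTensor.exists_point (k := k) hne
      let g := (ProjRep.ptsEquiv e).symm (toConv ψ)
      obtain ⟨m, hm, b, hb⟩ := hval g
      have h := ha m g ⟨b, hb⟩
      rw [MulEquiv.apply_symm_apply] at h
      exact hψ (by rw [map_prod]; exact Finset.prod_eq_zero hm h)
    obtain ⟨m, -, hm⟩ := Finset.prod_eq_zero_iff.1 hprod
    exact ha0 m hm
  -- the extreme eigenform
  let v₀ := Q j₀ (ρ g₁ v)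
  have hv₀ : ∀ g : RP G, ∃ a : k, Q j₀ (ρ g v) = a • v₀ := by
    intro g
    obtain ⟨a, ha⟩ := hv₁ g
    obtain ⟨b, hb⟩ := hv₁ g₁
    have hb0 : b ≠ 0 := fun h => hg₁ (hb.trans (by rw [h, zero_smul]))
    exact ⟨a * b⁻¹, by rw [ha, show v₀ = b • v₁ from hb, smul_smul, inv_mul_cancel_right₀ hb0]⟩
  have hv₀K : v₀ ∈ cone ρ v := by
    obtain ⟨j, hj, hne, hlow, hmem⟩ := hlead g₁
    have hjj : j = j₀ := le_antisymm (not_lt.1 fun hlt => hg₁ (hlow j₀ hj₀ hlt))
      (Finset.min'_le _ j (Finset.mem_filter.2 ⟨hj, g₁, hne⟩))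
    subst hjj
    exact hmem
  obtain ⟨l, hl⟩ : ∃ l : V →ₗ[k] k, l v₀ = 1 := by
    obtain ⟨l, hl⟩ : ∃ l : V →ₗ[k] k, l v₀ ≠ 0 := by
      by_contra h
      push Not at h
      exact hg₁ ((Module.forall_dual_apply_eq_zero_iff k v₀).1 h)
    exact ⟨(l v₀)⁻¹ • l, by simp [hl]⟩
  let φ₀ : V →ₗ[k] k := l ∘ₗ Q j₀
  have hφ₀ : ∀ z ∈ cone ρ v, Q j₀ z = φ₀ z • v₀ := by
    rintro z ⟨g, b, rfl⟩
    obtain ⟨a, ha⟩ := hv₀ g
    simp [φ₀, ha, hl, smul_smul]
  have hφ₀v : φ₀ v₀ = 1 := by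
    show l (Q j₀ (Q j₀ _)) = 1
    rw [hidem j₀ hj₀]
    exact hl
  have hφ₀e : CentEigen iT ρ v φ₀ := fun h hh => ⟨l (ρ h v₀), fun z hz => by
    show l (Q j₀ (ρ h z)) = _
    rw [hcommQ h hh j₀ hj₀, hφ₀ z hz, map_smul, map_smul, smul_eq_mul, mul_comm]⟩
  -- translate to the given eigenvector
  obtain ⟨g₂, a₂, hg₂⟩ := hv₀K
  have ha₂ : a₂ ≠ 0 := fun h => hg₁ (show v₀ = 0 by rw [hg₂, h, zero_smul])
  obtain ⟨n, hn, b, hb0, hb⟩ := hconj g₂ gy (fun t => by
    obtain ⟨b, hb⟩ := hQe t j₀ hj₀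
    refine ⟨b, smul_right_injective V ha₂ ?_⟩
    show a₂ • ρ (t ≫ iT) (ρ g₂ v) = a₂ • b • ρ g₂ v
    rw [← map_smul, ← hg₂, show ρ (t ≫ iT) v₀ = b • v₀ from hb _, hg₂, smul_comm]) hgy
  refine ⟨φ₀ ∘ₗ ρ n⁻¹, fun h hh => ?_, ?_⟩
  · obtain ⟨a, ha⟩ := hφ₀e (n⁻¹ * h * n) fun t => by
      obtain ⟨p', hp'⟩ := (hn t).1
      have h1 := hh p'
      rw [← hp'] at h1
      have h2 := congrArg (fun q => n⁻¹ * q * n) h1
      simpa [_root_.mul_assoc] using h2
    refine ⟨a, fun z hz => ?_⟩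
    have h3 := ha (ρ n⁻¹ z) (rho_mem_cone ρ v hz _)
    rw [← Module.End.mul_apply, ← map_mul, show n⁻¹ * h * n * n⁻¹ = n⁻¹ * h by group, map_mul,
      Module.End.mul_apply] at h3
    exact h3
  · show φ₀ (ρ n⁻¹ (ay • ρ gy v)) ≠ 0
    rw [map_smul, ← inv_smul_smul₀ hb0 (ρ gy v), ← hb, map_smul (ρ n⁻¹), rho_cancel,
      show ρ g₂ v = a₂⁻¹ • v₀ by rw [hg₂, inv_smul_smul₀ ha₂], map_smul, map_smul, map_smul, hφ₀v]
    simp [hay, hb0, ha₂]

/-- A homomorphism into the commutant of the torus whose torus-trivial characters vanish fixes the cone. -/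
theorem eq_self_of_commute (iT : T ⟶ G) (hT : AGF.IsMaxTorus iT) (iB : B ⟶ G) (hB : Red.IsBorelOver k iB)
    (e : (specGrp k A).X ≅ G) [IsMonHom e.hom] {ρ : RP G →* Module.End k V} (hρ : IsRegular e ρ) {v : V} (hv : v ≠ 0)
    (hline : ∀ g : RP G, (∃ b : RP B, b ≫ iB = g) ↔ ∃ c : k, ρ g v = c • v) (hK : IsZar (k := k) (cone ρ v))
    {H : Over (Spec (CommRingCat.of k))} [GrpObj H] [IsAffine H.left] [Smooth H.hom] [ConnectedSpace H.left]
    {R : Type u} [CommRing R] [HopfAlgebra k R] (e' : (specGrp k R).X ≅ H) [IsMonHom e'.hom]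
    (f : H ⟶ G) [IsMonHom f] (hcomm : ∀ (h : RP H) (t : RP T), (h ≫ f) * (t ≫ iT) = (t ≫ iT) * (h ≫ f))
    (hchar : ∀ θ : R, (∀ p q : RP H, (ProjRep.ptsEquiv e' (p * q)) θ = (ProjRep.ptsEquiv e' p) θ * (ProjRep.ptsEquiv e' q) θ) →
      (∀ p : RP H, p ≫ f = 1 → (ProjRep.ptsEquiv e' p) θ = 1) → ∀ p : RP H, (ProjRep.ptsEquiv e' p) θ = 1)
    (h : RP H) {x : V} (hx : x ∈ cone ρ v) : ρ (h ≫ f) x = x := by
  classical
  haveI : IsIso e'.hom.left := inferInstanceAs (IsIso ((Over.forget _).map e'.hom))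
  haveI : IsDomain R := isDomain_of_smooth_connected e'
  haveI : Algebra.FiniteType k R := by
    have h0 : LocallyOfFiniteType (e'.hom.left ≫ H.hom) := inferInstance
    rw [Over.w e'.hom] at h0
    exact RingHom.finiteType_algebraMap.1 ((HasRingHomProperty.Spec_iff (P := @LocallyOfFiniteType)).1 h0)
  let Φ : Set (V →ₗ[k] k) := {φ | ∀ p : RP H, ∀ z ∈ cone ρ v, φ (ρ (p ≫ f) z) = φ z}
  have hρ' := hρ.comp e' f
  -- the invariant forms have no common zero
  have hsep : ∀ y ∈ cone ρ v, (∀ φ ∈ Φ, φ y = 0) → y = 0 := by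
    intro y hy hyΦ
    by_contra hy0
    haveI := hT.1
    obtain ⟨J, Q, L, hop, hQL, hQe⟩ := exists_cochar hT.2.2.1 iT e hρ
    have hop1 : ρ (L 1 ≫ iT) = 1 := LinearMap.ext fun z => by
      have h1 : ρ (L 1 ≫ iT) z = ∑ j ∈ J, Q j z := (hop 1 z).trans (Finset.sum_congr rfl fun j _ => by simp)
      have h2 : ρ (L 1 ≫ iT) (∑ j ∈ J, Q j z) = ∑ j ∈ J, Q j z := by
        rw [map_sum]
        exact Finset.sum_congr rfl fun j hj => by rw [hQL 1 j hj z]; simp
      rw [← h1] at h2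
      have h3 := congrArg (ρ (L 1 ≫ iT)⁻¹) h2
      rw [rho_cancel, rho_cancel] at h3
      rw [h3, Module.End.one_apply]
    obtain ⟨j₀, hj₀, hne, -, hmem⟩ := exists_leading (hK.inter_ker Φ)
      (fun z hz c => ⟨smul_mem_cone ρ v hz.1 c, fun φ hφ => by rw [map_smul, hz.2 φ hφ, smul_zero]⟩) J Q
      (fun s => ρ (L s ≫ iT)) hop (fun s z hz => ⟨rho_mem_cone ρ v hz.1 _, fun φ hφ => hz.2 (φ ∘ₗ ρ (L s ≫ iT))
        fun p w hw => by
          show φ (ρ (L s ≫ iT) (ρ (p ≫ f) w)) = φ (ρ (L s ≫ iT) w)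
          rw [← Module.End.mul_apply, ← map_mul, ← hcomm, map_mul, Module.End.mul_apply]
          exact hφ p _ (rho_mem_cone ρ v hw _)⟩) hop1 (⟨hy, hyΦ⟩ : y ∈ {z ∈ cone ρ v | ∀ φ ∈ Φ, φ z = 0}) hy0
    obtain ⟨φ, hφ, hφ0⟩ := exists_centEigen iT hT iB hB e hρ hv hline hK hmem.1 hne fun t => by
      obtain ⟨c, hc⟩ := hQe t j₀ hj₀
      exact ⟨c, hc y⟩
    refine hφ0 (hmem.2 φ fun p z hz => ?_)
    -- the eigenvalue is a character
    set w := Q j₀ y
    have hwK : w ∈ cone ρ v := hmem.1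
    obtain ⟨θ₁, hθ₁⟩ := hρ' φ w
    let θ : R := (φ w)⁻¹ • θ₁
    have hθ : ∀ q : RP H, (ProjRep.ptsEquiv e' q) θ = (φ w)⁻¹ * φ (ρ (q ≫ f) w) := fun q => by
      show (ProjRep.ptsEquiv e' q).ofConv ((φ w)⁻¹ • θ₁) = _
      rw [map_smul, smul_eq_mul]
      congr 1
      exact hθ₁ q
    have hθ' : ∀ q : RP H, ∀ z ∈ cone ρ v, φ (ρ (q ≫ f) z) = (ProjRep.ptsEquiv e' q) θ * φ z := by
      intro q z hz
      obtain ⟨a, ha⟩ := hφ (q ≫ f) fun t => hcomm q t
      rw [hθ, ha z hz, ha w hwK, mul_comm a (φ w), ← _root_.mul_assoc, inv_mul_cancel₀ hφ0, _root_.one_mul]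
    rw [hθ' p z hz, hchar θ (fun p q => ?_) (fun q hq => ?_) p, _root_.one_mul]
    · rw [hθ (p * q), MonObj.mul_comp, map_mul, Module.End.mul_apply, hθ' p _ (rho_mem_cone ρ v hwK _),
        hθ' q _ hwK]
      field_simp
    · rw [hθ, hq, map_one, Module.End.one_apply, inv_mul_cancel₀ hφ0]
  -- hence the coordinates are constant
  choose w hw using fun i => hρ' ((Module.finBasis k V).coord i) x
  have hwpt : ∀ ψ : R →ₐ[k] k, coo (ρ ((ProjRep.ptsEquiv e').symm (toConv ψ) ≫ f) x) = fun i => ψ (w i) :=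
    fun ψ => funext fun i => by
      have := hw i ((ProjRep.ptsEquiv e').symm (toConv ψ))
      rw [MulEquiv.apply_symm_apply] at this
      exact this.symm
  choose c hc using exists_const_coords hK (fun z hz a => smul_mem_cone ρ v hz a) Φ hsep w
    (fun ψ => ⟨_, rho_mem_cone ρ v hx _, hwpt ψ⟩)
    (fun φ hφ => ⟨φ x, fun ψ z hz => by
      rw [coo_injective (hz.trans (hwpt ψ).symm)]
      exact hφ _ x hx⟩)
  refine coo_injective (k := k) (funext fun i => ?_)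
  have h1 := hw i h
  have h2 := hw i 1
  rw [hc] at h1 h2
  have h3 : ∀ q : RP H, (ProjRep.ptsEquiv e' q) (algebraMap k R (c i)) = c i := fun q =>
    (ProjRep.ptsEquiv e' q).ofConv.commutes (c i)
  rw [h3] at h1 h2
  show (Module.finBasis k V).coord i _ = (Module.finBasis k V).coord i x
  refine h1.symm.trans (h2.trans ?_)
  rw [map_one]
  rfl

end Groth.Agent.RedCartan
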