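import Groth.Agent.RedCartan.Family
import Groth.Agent.RedCartan.Global
import Groth.Agent.Chev.CentCover
import Groth.Agent.MTDescent.SubgroupDescent
import Groth.Agent.RedR1.Gen

/-!
# A point in every maximal torus of a reductive group is central
-/

set_option autoImplicit false
set_option linter.style.haveILetI false
set_option backward.isDefEq.respectTransparency false
set_option maxHeartbeats 1000000
set_option synthInstance.maxHeartbeats 400000

universe u

open CategoryTheory CategoryTheory.Limits MonoidalCategory CartesianMonoidalCategory MonObj GrpObj AlgebraicGeometry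
open Groth.Agent.SubGen (rpt map_rpt exists_rpt)

noncomputable section

namespace Groth.Agent.RedCartan

open Groth.Agent.Chev Groth.Agent.MTBridge Groth.Agent.MTImage Groth.Agent.MTCentre Groth.Agent.MTQuot

variable {S : Scheme.{u}} {G : Over S} [GrpObj G]

omit [GrpObj G] in
theorem toUnit_unit' : toUnit (𝟙_ (Over S)) = 𝟙 _ := toUnit_unique _ _

/-- Points of a conjugate. -/
theorem point_conjBy {H : Over S} (h : 𝟙_ (Over S) ⟶ G) (i : H ⟶ G) {Z : Over S} (z : Z ⟶ H) :
    z ≫ AGF.conjBy h i = (toUnit Z ≫ h) * (z ≫ i) * (toUnit Z ≫ h)⁻¹ := by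
  rw [AGF.conjBy, MonObj.comp_mul, MonObj.comp_mul, GrpObj.comp_inv, ← Category.assoc, toUnit_unique (z ≫ toUnit H) (toUnit Z)]

/-- The conjugate of a maximal torus is a maximal torus. -/
theorem isMaximalTorus_conjBy {T : Over S} [GrpObj T] (h : 𝟙_ (Over S) ⟶ G) (i : T ⟶ G)
    (hi : Red.IsMaximalTorus i) : Red.IsMaximalTorus (AGF.conjBy h i) := by
  haveI := hi.1
  let c : G ≅ G := ⟨AGF.conjBy h (𝟙 G), AGF.conjBy h⁻¹ (𝟙 G), by
    rw [point_conjBy, Category.comp_id, GrpObj.comp_inv, AGF.conjBy]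
    group, by
    rw [point_conjBy, Category.comp_id, AGF.conjBy, GrpObj.comp_inv]
    group⟩
  have hpt : ∀ {Z : Over S} (z : Z ⟶ G), z ≫ c.hom = (toUnit Z ≫ h) * z * (toUnit Z ≫ h)⁻¹ := fun z => by
    show z ≫ AGF.conjBy h (𝟙 G) = _
    rw [point_conjBy, Category.comp_id]
  haveI : IsMonHom c.hom := by
    refine ⟨?_, ?_⟩
    · rw [hpt, toUnit_unit', Category.id_comp, show (η[G] : 𝟙_ _ ⟶ G) = 1 by rw [Hom.one_def, toUnit_unit', Category.id_comp],
        _root_.mul_one, mul_inv_cancel]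
    · have e1 : (μ[G] : G ⊗ G ⟶ G) = fst G G * snd G G := by rw [Hom.mul_def, lift_fst_snd, Category.id_comp]
      have e2 : (c.hom ⊗ₘ c.hom) ≫ μ[G] = (fst G G ≫ c.hom) * (snd G G ≫ c.hom) := by
        rw [e1, MonObj.comp_mul, tensorHom_fst, tensorHom_snd]
      rw [e2, e1, hpt, hpt, hpt]
      group
  haveI : IsMonHom (Iso.refl T).hom := inferInstanceAs (IsMonHom (𝟙 T))
  exact isMaximalTorus_iso (Iso.refl T) c i _ (by rw [Iso.refl_hom, Category.id_comp, hpt]) hi.2.2.1 hi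

/-- The conjugation family of a maximal torus. -/
def conjFam {T : Over S} (i : T ⟶ G) : G ⊗ T ⟶ G := fst G T * (snd G T ≫ i) * (fst G T)⁻¹

theorem lift_conjFam {T : Over S} (i : T ⟶ G) {X : Over S} (a : X ⟶ G) (b : X ⟶ T) :
    lift a b ≫ conjFam i = a * (b ≫ i) * a⁻¹ := by
  rw [conjFam, MonObj.comp_mul, MonObj.comp_mul, GrpObj.comp_inv, lift_fst, ← Category.assoc, lift_snd]

/-- The conjugates of a maximal torus are dense in every fibre of a reductive group. -/
theorem exists_conjFam_mem [IsAffineHom G.hom] [Smooth G.hom]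
    (hconn : ∀ s : S, _root_.IsConnected (G.hom.base ⁻¹' {s})) (hct : CartanIsTorus G) {T : Over S} [GrpObj T] (i : T ⟶ G) (hi : Red.IsMaximalTorus i)
    (s : S) (V : G.left.Opens) (hV : ∃ q ∈ V, G.hom q = s) :
    ∃ p : (G ⊗ T).left, (conjFam i).left p ∈ V ∧ (G ⊗ T).hom p = s := by
  obtain ⟨q, hqV, hqs⟩ := hV
  let k := Red.geomPt s
  let K := AlgebraicClosure (S.residueField s)
  have hks : k (IsLocalRing.closedPoint K) = s := geomPt_closedPoint s
  let G' := Red.geomFibre s G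
  haveI hGs : Smooth G'.hom := inferInstanceAs (Smooth (pullback.snd G.hom k))
  haveI : IsAffineHom G'.hom := MorphismProperty.pullback_snd (P := @IsAffineHom) G.hom k ‹_›
  haveI : IsAffine G'.left := isAffine_of_isAffineHom G'.hom
  haveI : ConnectedSpace G'.left := TorusLift.connectedSpace_bc_geom hconn k
  haveI := hi.1; haveI := hi.2.1
  haveI : PreservesLimitsOfShape WalkingCospan (Over.pullback k) :=
    (Adjunction.rightAdjoint_preservesLimits (Over.mapPullbackAdj k)).preservesLimitsOfShape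
  let i' := (Over.pullback k).map i
  have hi' : AGF.IsMaxTorus i' := ⟨inferInstance, inferInstance, Chev.Borel.isTorus_bc_scheme T k hi.2.2.1, hi.2.2.2 s⟩
  have hc : Red.IsCentralizerOf i' i' := hct K k _ i' (Chev.Borel.isMaximalTorus_of_isMaxTorus i' hi')
  obtain ⟨U, hUne, hU⟩ := Chev.Borel.exists_open_conj i' hi' i' hc
  obtain ⟨q', hq'⟩ : ∃ q' : G'.left, pullback.fst G.hom k q' = q := by
    have : q ∈ Set.range (pullback.fst G.hom k) := by
      rw [Scheme.Pullback.range_fst]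
      exact ⟨IsLocalRing.closedPoint K, hks.trans hqs.symm⟩
    exact this
  let V' : G'.left.Opens := pullback.fst G.hom k ⁻¹ᵁ V
  haveI : GeometricallyIrreducible G'.hom := GrpField.geometricallyIrreducible_of_connected G'
  haveI : IrreducibleSpace G'.left := GrpField.irreducibleSpace_of_nhds (GrpField.exists_irreducible_nhd G')
  haveI : JacobsonSpace G'.left := LocallyOfFiniteType.jacobsonSpace G'.hom
  obtain ⟨x₀, hx₀, hx₀c⟩ := nonempty_inter_closedPoints (Z := ((U ⊓ V' : G'.left.Opens) : Set G'.left))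
    (nonempty_preirreducible_inter U.2 V'.2 hUne ⟨q', show pullback.fst G.hom k q' ∈ V by rw [hq']; exact hqV⟩)
    (U ⊓ V').2.isLocallyClosed
  obtain ⟨x, rfl⟩ := exists_rpt hx₀c
  obtain ⟨g, y, hgy⟩ := hU x hx₀.1
  obtain ⟨a, ha⟩ := exists_toBC' k g
  obtain ⟨b, hb⟩ := exists_toBC' k y
  refine ⟨(lift a b).left (IsLocalRing.closedPoint K), ?_, ?_⟩
  · have hx : toBC k (lift a b ≫ conjFam i) = x := by
      rw [lift_conjFam, toBC_mul, toBC_mul, toBC_inv, toBC_comp, ha, hb, ← hgy]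
    have hm : pullback.fst G.hom k (rpt x) ∈ V := hx₀.2
    rw [← hx] at hm
    have e := MTDescent.left_toBC_fst_eq k (lift a b ≫ conjFam i)
    exact (congrArg (fun m => m (IsLocalRing.closedPoint K)) e) ▸ hm
  · have e : (lift a b).left ≫ (G ⊗ T).hom = 𝟙 _ ≫ k := Over.w (lift a b)
    refine (congrArg (fun m => m (IsLocalRing.closedPoint K)) e).trans ?_
    show (𝟙 _ ≫ k) (IsLocalRing.closedPoint K) = s
    rw [Category.id_comp]
    exact hks

/-- A point lying in every maximal torus, universally. -/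
def InAllTori {X : Over S} (g : X ⟶ G) : Prop :=
  ∀ (Y : Scheme.{u}) (y : Y ⟶ X.left) (T : Over Y) [GrpObj T] (i : T ⟶ Red.bc (y ≫ X.hom) G),
    Red.IsMaximalTorus i →
      ∃ p : Y ⟶ T.left, p ≫ T.hom = 𝟙 Y ∧ p ≫ i.left ≫ Limits.pullback.fst G.hom (y ≫ X.hom) = y ≫ g.left

theorem InAllTori.comp {X X' : Over S} {g : X ⟶ G} (h : InAllTori g) (f : X' ⟶ X) : InAllTori (f ≫ g) := by
  intro Y y T _ i hi
  have key : ∀ (φ : Y ⟶ S), φ = (y ≫ f.left) ≫ X.hom → ∀ (i : T ⟶ Red.bc φ G), Red.IsMaximalTorus i →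
      ∃ p : Y ⟶ T.left, p ≫ T.hom = 𝟙 Y ∧ p ≫ i.left ≫ Limits.pullback.fst G.hom φ = (y ≫ f.left) ≫ g.left := by
    rintro φ rfl i hi
    exact h Y (y ≫ f.left) T i hi
  obtain ⟨p, hp1, hp2⟩ := key (y ≫ X'.hom) (by rw [Category.assoc, Over.w f]) i hi
  exact ⟨p, hp1, by rw [hp2, Category.assoc]; rfl⟩

/-- A point in all maximal tori lies in every maximal torus after a further base change. -/
theorem InAllTori.exists_lift {X : Over S} {g : X ⟶ G} (hg : InAllTori g) {W : Scheme.{u}} {F : W ⟶ S}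
    {Z : Scheme.{u}} {z : Z ⟶ W} (px : (Over.map F).obj (Over.mk z) ⟶ X) {T : Over Z} [GrpObj T]
    (i : T ⟶ Red.bc z (Red.bc F G)) (hi : Red.IsMaximalTorus i) :
    ∃ p : 𝟙_ (Over Z) ⟶ T,
      p ≫ i = toBC z ((Over.homMk (U := (Over.map z).obj (𝟙_ (Over Z))) (V := Over.mk z) (𝟙 Z) rfl) ≫ toBC F (px ≫ g)) := by
  obtain ⟨e, he, hem⟩ := MaxTorusBC.exists_trIso (show z ≫ F = px.left ≫ X.hom from (Over.w px).symm) G
  haveI : IsMonHom e.hom := hem
  haveI : IsMonHom e.symm.hom := inferInstanceAs (IsMonHom e.inv)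
  haveI : IsMonHom (Iso.refl T).hom := inferInstanceAs (IsMonHom (𝟙 T))
  haveI := hi.1; haveI := hi.2.1
  obtain ⟨p, hp1, hp2⟩ := hg Z px.left T (i ≫ e.inv)
    (isMaximalTorus_iso (Iso.refl T) e.symm i _ (by rw [Iso.refl_hom, Category.id_comp]; rfl) hi.2.2.1 hi)
  refine ⟨Over.homMk p hp1, Over.OverMorphism.ext ?_⟩
  have h2 : e.inv.left ≫ pullback.fst G.hom (px.left ≫ X.hom) = pullback.fst _ z ≫ pullback.fst G.hom F := by
    rw [← tr_id_fst (show z ≫ F = px.left ≫ X.hom from (Over.w px).symm) G, ← he, ← Category.assoc, ← Over.comp_left,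
      e.inv_hom_id]
    exact Category.id_comp _
  rw [Over.comp_left, Category.assoc, h2] at hp2
  apply pullback.hom_ext
  · apply pullback.hom_ext
    · rw [MTDescent.left_toBC_fst_eq, Over.comp_left, Over.comp_left, Category.assoc, Category.assoc, Category.assoc,
        MTDescent.left_toBC_fst_eq]
      simp only [Over.homMk_left, Category.id_comp]
      exact hp2
    · rw [MTDescent.left_toBC_fst_eq, Over.comp_left, Over.comp_left, Category.assoc, Category.assoc, Category.assoc]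
      erw [Over.w (toBC F (px ≫ g))]
      have hii : i.left ≫ pullback.snd (Red.bc F G).hom z = T.hom := Over.w i
      have hcc : pullback.fst (Red.bc F G).hom z ≫ (Red.bc F G).hom = pullback.snd _ z ≫ z := pullback.condition
      show p ≫ i.left ≫ pullback.fst (Red.bc F G).hom z ≫ (Red.bc F G).hom = 𝟙 Z ≫ z
      rw [hcc, reassoc_of% hii, reassoc_of% hp1, Category.id_comp]
  · exact (Over.w _).trans (Over.w _).symm

/-- **A point lying in every maximal torus of a reductive group is central.** -/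
theorem commute_of_inAllTori [IsAffineHom G.hom] [Smooth G.hom]
    (hconn : ∀ s : S, _root_.IsConnected (G.hom.base ⁻¹' {s})) (hu : SGA3x.UnipotentRankZero G) {X : Over S} (g : X ⟶ G) (hg : InAllTori g) (h : X ⟶ G) :
    g * h = h * g := by
  obtain ⟨S₁, f₁, hf₁, hs₁, T, hTg, i, hi⟩ := TorusLift.hasMaxTorusEtaleLocally (redRankLocallyConstant_of_urz hconn hu)
  haveI := hf₁; haveI := hs₁; haveI := hi.1; haveI := hi.2.1
  obtain ⟨S₂, π, hπf, hπs, -, hloc⟩ := hi.2.2.1
  haveI := hπf; haveI := hπs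
  choose U hU r hsplit using hloc
  let Y : Over S := Over.mk (pullback.fst X.hom (π ≫ f₁) ≫ X.hom)
  let p : Y ⟶ X := Over.homMk (pullback.fst X.hom (π ≫ f₁)) rfl
  haveI : Flat (π ≫ f₁) := inferInstance
  haveI : Flat p.left := MorphismProperty.pullback_fst (P := @Flat) _ _ ‹_›
  haveI : Surjective p.left := MorphismProperty.pullback_fst (P := @Surjective) _ _ inferInstance
  haveI := RedR1.epi_of_flat_surjective p
  rw [← cancel_epi p, MonObj.comp_mul, MonObj.comp_mul]
  have hgY := hg.comp p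
  refine Over.OverMorphism.ext ?_
  -- locally on a split chart
  have hlocal : ∀ y : Y.left, ∃ O : Y.left.Opens, y ∈ O ∧
      O.ι ≫ ((p ≫ g) * (p ≫ h)).left = O.ι ≫ ((p ≫ h) * (p ≫ g)).left := by
    intro y
    let y₂ : S₂ := pullback.snd X.hom (π ≫ f₁) y
    obtain ⟨W, hW, hyW, hWU⟩ : ∃ W : S₂.Opens, IsAffineOpen W ∧ y₂ ∈ W ∧ W ≤ U y₂ := by
      obtain ⟨_, ⟨W, hW, rfl⟩, h1, h2⟩ := S₂.isBasis_affineOpens.exists_subset_of_mem_open (hU y₂) (U y₂).2
      exact ⟨W, hW, h1, h2⟩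
    haveI : IsAffine (W : Scheme.{u}) := hW
    let j := W.ι ≫ π
    let F := j ≫ f₁
    haveI : IsAffineHom (Red.bc F G).hom := MorphismProperty.pullback_snd (P := @IsAffineHom) G.hom F ‹_›
    haveI : Smooth (Red.bc F G).hom := inferInstanceAs (Smooth (pullback.snd G.hom F))
    haveI : LocallyOfFiniteType (Red.bc f₁ G).hom := inferInstanceAs (LocallyOfFiniteType (pullback.snd G.hom f₁))
    haveI : IsAffineHom (Red.bc f₁ G).hom := MorphismProperty.pullback_snd (P := @IsAffineHom) G.hom f₁ ‹_›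
    haveI : QuasiCompact (Red.bc f₁ G).hom := inferInstance
    obtain ⟨eT⟩ := nonempty_bc_split (H := T) (hsplit y₂) (S₂.homOfLE hWU)
    let eT' : Grp.mk (Red.bc j T) ≅ Grp.mk (Red.DS (W : Scheme.{u}) (Fin (r y₂) → ℤ)) :=
      bcCongr (by simp [j]) T ≪≫ eT
    let a : Red.bc j T ≅ Red.DS (W : Scheme.{u}) (Fin (r y₂) → ℤ) := (Grp.forget _).mapIso eT'
    haveI : IsMonHom a.hom := eT'.hom.hom.isMonHom_hom
    obtain ⟨b, -, hb⟩ := MaxTorusBC.exists_trIso (show j ≫ f₁ = F from rfl) G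
    haveI : IsMonHom b.hom := hb
    haveI : IsMonHom b.symm.hom := inferInstanceAs (IsMonHom b.inv)
    let i' := a.inv ≫ (Over.pullback j).map i ≫ b.inv
    have hi' : Red.IsMaximalTorus i' :=
      isMaximalTorus_iso a b.symm ((Over.pullback j).map i) _ (by simp [i']) (isTorus_DS_scheme _ _)
        (MaxTorusBC.isMaximalTorus_bc i hi j)
    haveI := hi'.1; haveI := hi'.2.1
    have hconnW := isConnected_fibre_bc G hconn F
    have hctW := cartanIsTorus_bc (cartanIsTorus_of_urz hconn hu) F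
    haveI : Smooth (Red.DS (W : Scheme.{u}) (Fin (r y₂) → ℤ)).hom := smooth_torus hi'.2.2.1
    haveI : Smooth (Red.bc F G ⊗ Red.DS (W : Scheme.{u}) (Fin (r y₂) → ℤ)).hom := by
      show Smooth (pullback.fst _ _ ≫ (Red.bc F G).hom)
      infer_instance
    obtain ⟨V, hyV, hVc⟩ := exists_nhd_central_of_family hconnW i'
      (fun _ : PUnit.{1} => Red.bc F G ⊗ Red.DS (W : Scheme.{u}) (Fin (r y₂) → ℤ)) (fun _ => conjFam i')
      (fun s V hV => by
        obtain ⟨q, h1, h2⟩ := exists_conjFam_mem hconnW hctW i' hi' s V hV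
        exact ⟨PUnit.unit, q, h1, h2⟩) ⟨y₂, hyW⟩
    let O := pullback.snd X.hom (π ≫ f₁) ⁻¹ᵁ (W.ι ''ᵁ V)
    refine ⟨O, ⟨⟨y₂, hyW⟩, hyV, rfl⟩, ?_⟩
    let q : O.toScheme ⟶ (W : Scheme.{u}) :=
      IsOpenImmersion.lift W.ι (O.ι ≫ pullback.snd X.hom (π ≫ f₁)) (by
        rintro _ ⟨o, rfl⟩
        obtain ⟨v, -, hv⟩ := o.2
        exact ⟨v, hv⟩)
    have hq : q ≫ W.ι = O.ι ≫ pullback.snd X.hom (π ≫ f₁) := IsOpenImmersion.lift_fac _ _ _
    let XW : Over (W : Scheme.{u}) := Over.mk q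
    have hXW : Set.range XW.hom ⊆ (V : Set (W : Scheme.{u})) := by
      rintro _ ⟨o, rfl⟩
      obtain ⟨v, hv, hv'⟩ := o.2
      have : W.ι (q o) = W.ι v := by
        rw [← Scheme.Hom.comp_apply, hq, Scheme.Hom.comp_apply]
        exact hv'.symm
      show q o ∈ V
      rwa [W.ι.isOpenEmbedding.injective this]
    let px : (Over.map F).obj XW ⟶ Y := Over.homMk O.ι (by
      show O.ι ≫ pullback.fst X.hom (π ≫ f₁) ≫ X.hom = q ≫ (W.ι ≫ π) ≫ f₁
      rw [Category.assoc W.ι, reassoc_of% hq, pullback.condition])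
    let gW : XW ⟶ Red.bc F G := toBC F (px ≫ p ≫ g)
    -- membership in the tori
    obtain ⟨-, -, hcent⟩ := centralizer_self hconnW hctW i' hi'
    have hmem : ∀ (X' : Over (W : Scheme.{u})) (x : X' ⟶ XW) (v : X' ⟶ Red.bc F G) (t : X' ⟶ Red.DS _ (Fin (r y₂) → ℤ)),
        (x ≫ gW) * (v * (t ≫ i') * v⁻¹) = (v * (t ≫ i') * v⁻¹) * (x ≫ gW) := by
      intro X' x v t
      let E : (Over.map X'.hom).obj (𝟙_ (Over X'.left)) ⟶ X' := Over.homMk (𝟙 _) rfl
      let vb := toBC X'.hom (E ≫ v)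
      haveI : PreservesLimitsOfShape WalkingCospan (Over.pullback X'.hom) :=
        (Adjunction.rightAdjoint_preservesLimits (Over.mapPullbackAdj X'.hom)).preservesLimitsOfShape
      haveI : LocallyOfFiniteType (Red.bc F G).hom := inferInstance
      haveI : QuasiCompact (Red.bc F G).hom := inferInstance
      have hib := MaxTorusBC.isMaximalTorus_bc i' hi' X'.hom
      obtain ⟨t₀, ht₀⟩ := hgY.exists_lift (Z := X'.left) (z := X'.hom)
        ((Over.map F).map (Over.homMk (U := Over.mk X'.hom) x.left (Over.w x)) ≫ px) _ (isMaximalTorus_conjBy vb _ hib)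
      have e1 : toBC F (((Over.map F).map (Over.homMk (U := Over.mk X'.hom) x.left (Over.w x)) ≫ px) ≫ p ≫ g) = x ≫ gW := by
        rw [Category.assoc, toBC_naturality]; rfl
      rw [e1, point_conjBy, toUnit_unit', Category.id_comp] at ht₀
      haveI := hib.1
      let Ψ : (X' ⟶ Red.bc F G) →* (𝟙_ (Over X'.left) ⟶ Red.bc X'.hom (Red.bc F G)) :=
        MonoidHom.mk' (fun w => toBC X'.hom (E ≫ w)) fun a b => by rw [MonObj.comp_mul, toBC_mul]
      have key : Ψ ((x ≫ gW) * (v * (t ≫ i') * v⁻¹)) = Ψ ((v * (t ≫ i') * v⁻¹) * (x ≫ gW)) := by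
        have hti : Ψ (t ≫ i') = toBC X'.hom (E ≫ t) ≫ (Over.pullback X'.hom).map i' := by
          show toBC X'.hom (E ≫ t ≫ i') = _
          rw [← Category.assoc, toBC_comp]
        have hgx : Ψ (x ≫ gW) = vb * (t₀ ≫ (Over.pullback X'.hom).map i') * vb⁻¹ := ht₀.symm
        simp only [map_mul, map_inv, hti, hgx]
        show _ * (vb * _ * vb⁻¹) = (vb * _ * vb⁻¹) * _
        generalize hs : toBC X'.hom (E ≫ t) = s
        generalize (Over.pullback X'.hom).map i' = ib at *
        have hcomm : (t₀ ≫ ib) * (s ≫ ib) = (s ≫ ib) * (t₀ ≫ ib) := by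
          rw [← MonObj.mul_comp, ← MonObj.mul_comp, RedR1.mul_comm_torus hib.2.2.1]
        calc vb * (t₀ ≫ ib) * vb⁻¹ * (vb * (s ≫ ib) * vb⁻¹) = vb * ((t₀ ≫ ib) * (s ≫ ib)) * vb⁻¹ := by group
          _ = vb * ((s ≫ ib) * (t₀ ≫ ib)) * vb⁻¹ := by rw [hcomm]
          _ = _ := by group
      have := toBC_inj _ key
      refine Over.OverMorphism.ext ?_
      have h3 := congrArg (fun m => m.left) this
      simpa [E] using h3
    obtain ⟨t, ht⟩ := (hcent XW gW).2 fun X' x a => by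
      simpa using hmem X' x 1 a
    have hfin := hVc XW hXW t (fun X' x _ w => by
      rw [show w ≫ conjFam i' = (w ≫ fst _ _) * ((w ≫ snd _ _) ≫ i') * (w ≫ fst _ _)⁻¹ by
        rw [← lift_conjFam, lift_comp_fst_snd], Category.assoc, ht]
      exact hmem X' x _ _) (toBC F (px ≫ p ≫ h))
    rw [ht] at hfin
    have h4 : toBC F (px ≫ ((p ≫ g) * (p ≫ h))) = toBC F (px ≫ ((p ≫ h) * (p ≫ g))) := by
      simpa [gW, MonObj.comp_mul, toBC_mul] using hfin
    exact congrArg (fun m => m.left) (toBC_inj F h4)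
  choose O hO hOeq using hlocal
  exact Scheme.Cover.hom_ext (Scheme.openCoverOfIsOpenCover Y.left O
    (eq_top_iff.2 fun y _ => TopologicalSpace.Opens.mem_iSup.2 ⟨y, hO y⟩)) _ _ fun y => hOeq y

end Groth.Agent.RedCartan
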