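import Groth.Agent.RedCartan.Inter
import Groth.Agent.PtsDense.Basic

/-!
# Over a separably closed field the rational maximal tori detect the centre
-/

set_option autoImplicit false
set_option linter.style.haveILetI false
set_option backward.isDefEq.respectTransparency false
set_option maxHeartbeats 1000000
set_option synthInstance.maxHeartbeats 400000

universe u

open CategoryTheory CategoryTheory.Limits MonoidalCategory CartesianMonoidalCategory MonObj GrpObj AlgebraicGeometry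
open Groth.Agent.SubGen (rpt map_rpt exists_rpt)

noncomputable section

namespace Groth.Agent.RedCartan

open Groth.Agent.Chev Groth.Agent.MTBridge Groth.Agent.MTImage Groth.Agent.MTCentre Groth.Agent.MTQuot

variable {k : Type u} [Field k] [IsSepClosed k] {G : Over (Spec (CommRingCat.of k))} [GrpObj G]
  [IsAffineHom G.hom] [Smooth G.hom]

/-- Over a separably closed field a group of locally constant reductive rank has a maximal torus. -/
theorem exists_maxTorus_sepClosed (hr : SGA3x.RedRankLocallyConstant G) :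
    ∃ (T : Over (Spec (CommRingCat.of k))) (_ : GrpObj T) (i : T ⟶ G), Red.IsMaximalTorus i := by
  obtain ⟨S₁, f₁, hf₁, hs₁, T, hTg, i, hi⟩ := TorusLift.hasMaxTorusEtaleLocally hr
  haveI := hf₁; haveI := hs₁
  obtain ⟨x⟩ : Nonempty S₁ := ⟨(f₁.surjective (IsLocalRing.closedPoint k)).choose⟩
  obtain ⟨-, ⟨s, hs, -⟩, -⟩ := (PtsDense.dense_rational k f₁).exists_mem_open isOpen_univ ⟨x, trivial⟩
  haveI := hi.1; haveI := hi.2.1
  haveI : LocallyOfFiniteType (Red.bc f₁ G).hom := inferInstanceAs (LocallyOfFiniteType (pullback.snd G.hom f₁))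
  haveI : IsAffineHom (Red.bc f₁ G).hom := MorphismProperty.pullback_snd (P := @IsAffineHom) G.hom f₁ ‹_›
  haveI : QuasiCompact (Red.bc f₁ G).hom := inferInstance
  obtain ⟨e, -, hem⟩ := MaxTorusBC.exists_trIso hs G
  let eg : Grp.mk (Red.bc (𝟙 (Spec (CommRingCat.of k))) G) ≅ Grp.mk G := bcIdIso G
  let e₁ : Red.bc (𝟙 (Spec (CommRingCat.of k))) G ≅ G := (Grp.forget _).mapIso eg
  haveI : IsMonHom e₁.hom := eg.hom.hom.isMonHom_hom
  haveI : IsMonHom e.hom := hem
  haveI : IsMonHom e.inv := inferInstance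
  let b : Red.bc s (Red.bc f₁ G) ≅ G := e.symm ≪≫ e₁
  haveI : IsMonHom b.hom := inferInstanceAs (IsMonHom (e.inv ≫ e₁.hom))
  haveI : IsMonHom (Iso.refl (Red.bc s T)).hom := inferInstanceAs (IsMonHom (𝟙 _))
  exact ⟨Red.bc s T, inferInstance, (Over.pullback s).map i ≫ b.hom,
    isMaximalTorus_iso (Iso.refl _) b ((Over.pullback s).map i) _ (by simp)
      (Borel.isTorus_bc_scheme T s hi.2.2.1) (MaxTorusBC.isMaximalTorus_bc i hi s)⟩

/-- **A point in all conjugates of a maximal torus by rational points is central.** -/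
theorem commute_of_conj_tori (hconn : ∀ s, _root_.IsConnected (G.hom.base ⁻¹' {s})) (hu : SGA3x.UnipotentRankZero G)
    {T : Over (Spec (CommRingCat.of k))} [GrpObj T] (i : T ⟶ G) (hi : Red.IsMaximalTorus i)
    {X : Over (Spec (CommRingCat.of k))} (g : X ⟶ G)
    (hg : ∀ h : 𝟙_ _ ⟶ G, ∃ t : X ⟶ T, t ≫ AGF.conjBy h i = g) (v : X ⟶ G) : g * v = v * g := by
  haveI := hi.1; haveI := hi.2.1
  obtain ⟨S₂, π, hπf, hπs, -, hloc⟩ := hi.2.2.1
  haveI := hπf; haveI := hπs
  obtain ⟨w₀, -⟩ := π.surjective (IsLocalRing.closedPoint k)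
  obtain ⟨U, hwU, r, hsplit⟩ := hloc w₀
  obtain ⟨W, hW, hwW, hWU⟩ : ∃ W : S₂.Opens, IsAffineOpen W ∧ w₀ ∈ W ∧ W ≤ U := by
    obtain ⟨_, ⟨W, hW, rfl⟩, h1, h2⟩ := S₂.isBasis_affineOpens.exists_subset_of_mem_open hwU U.2
    exact ⟨W, hW, h1, h2⟩
  haveI : IsAffine (W : Scheme.{u}) := hW
  haveI : Subsingleton (Spec (CommRingCat.of k)) := inferInstanceAs (Subsingleton (PrimeSpectrum k))
  let F := W.ι ≫ π
  haveI : Surjective F := ⟨fun x => ⟨⟨w₀, hwW⟩, Subsingleton.elim _ _⟩⟩
  haveI : Flat F := inferInstance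
  haveI : IsAffineHom (Red.bc F G).hom := MorphismProperty.pullback_snd (P := @IsAffineHom) G.hom F ‹_›
  haveI : Smooth (Red.bc F G).hom := inferInstanceAs (Smooth (pullback.snd G.hom F))
  obtain ⟨eT⟩ := nonempty_bc_split (H := T) hsplit (S₂.homOfLE hWU)
  let eT' : Grp.mk (Red.bc F T) ≅ Grp.mk (Red.DS (W : Scheme.{u}) (Fin r → ℤ)) :=
    bcCongr (by simp [F]) T ≪≫ eT
  let a : Red.bc F T ≅ Red.DS (W : Scheme.{u}) (Fin r → ℤ) := (Grp.forget _).mapIso eT'
  haveI : IsMonHom a.hom := eT'.hom.hom.isMonHom_hom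
  haveI : PreservesLimitsOfShape WalkingCospan (Over.pullback F) :=
    (Adjunction.rightAdjoint_preservesLimits (Over.mapPullbackAdj F)).preservesLimitsOfShape
  haveI : IsMonHom (Iso.refl (Red.bc F G)).hom := inferInstanceAs (IsMonHom (𝟙 _))
  let i' := a.inv ≫ (Over.pullback F).map i
  have hi' : Red.IsMaximalTorus i' :=
    isMaximalTorus_iso a (Iso.refl _) ((Over.pullback F).map i) _ (by simp [i']) (isTorus_DS_scheme _ _)
      (MaxTorusBC.isMaximalTorus_bc i hi F)
  haveI := hi'.1; haveI := hi'.2.1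
  have hconnW := isConnected_fibre_bc G hconn F
  have hctW := cartanIsTorus_bc (cartanIsTorus_of_urz hconn hu) F
  haveI : Smooth (Red.DS (W : Scheme.{u}) (Fin r → ℤ)).hom := smooth_torus hi'.2.2.1
  let Φ : (𝟙_ (Over (Spec (CommRingCat.of k))) ⟶ G) → (Red.DS (W : Scheme.{u}) (Fin r → ℤ) ⟶ Red.bc F G) :=
    fun h => a.inv ≫ (Over.pullback F).map (AGF.conjBy h i)
  -- rational points conjugates are dense
  have hdense : ∀ (s : (W : Scheme.{u})) (V : (Red.bc F G).left.Opens), (∃ q ∈ V, (Red.bc F G).hom q = s) →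
      ∃ h p, (Φ h).left p ∈ V ∧ (Red.DS (W : Scheme.{u}) (Fin r → ℤ)).hom p = s := by
    intro s V hV
    obtain ⟨p₀, hp₀V, hp₀s⟩ := exists_conjFam_mem hconnW hctW i' hi' s V hV
    let D := Red.DS (W : Scheme.{u}) (Fin r → ℤ)
    let P := Red.bc F G ⊗ D
    let K := P.left.residueField p₀
    let ZW : Over (W : Scheme.{u}) := Over.mk (P.left.fromSpecResidueField p₀ ≫ P.hom)
    let ψ : ZW ⟶ P := Over.homMk (P.left.fromSpecResidueField p₀) rfl
    let Z : Over (Spec (CommRingCat.of k)) := (Over.map F).obj ZW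
    obtain ⟨x, hx⟩ := exists_toBC' F (ψ ≫ fst (Red.bc F G) D)
    obtain ⟨b, hb⟩ := exists_toBC' F (ψ ≫ snd (Red.bc F G) D ≫ a.inv)
    let α : (G ⊗ Z : Over (Spec (CommRingCat.of k))) ⟶ G :=
      fst G Z * (snd G Z ≫ b ≫ i) * (fst G Z)⁻¹
    let β : (G ⊗ Z).left ⟶ (Red.bc F G).left :=
      pullback.lift α.left ((snd G Z).left ≫ ZW.hom) (by
        rw [Over.w α, Category.assoc]
        exact (Over.w (snd G Z)).symm)
    have hβ : ∀ (y : Z ⟶ G), (lift y (𝟙 Z)).left ≫ β = (toBC F (y * (b ≫ i) * y⁻¹)).left := fun y => by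
      have hα : lift y (𝟙 Z) ≫ α = y * (b ≫ i) * y⁻¹ := by
        simp only [α, MonObj.comp_mul, GrpObj.comp_inv, lift_fst, lift_snd_assoc, Category.id_comp]
      apply pullback.hom_ext
      · rw [MTDescent.left_toBC_fst_eq, ← hα]
        simp [β]
      · refine Eq.trans ?_ (Over.w (toBC F (y * (b ≫ i) * y⁻¹))).symm
        simp only [β, Category.assoc, pullback.lift_snd]
        rw [← Category.assoc, ← Over.comp_left, lift_snd]
        exact Category.id_comp _
    let O := β ⁻¹ᵁ V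
    have hO : (lift x (𝟙 Z)).left (IsLocalRing.closedPoint K) ∈ O := by
      show β ((lift x (𝟙 Z)).left (IsLocalRing.closedPoint K)) ∈ V
      rw [← Scheme.Hom.comp_apply, hβ, toBC_mul, toBC_mul, toBC_inv, toBC_comp, hx, hb]
      have e : (ψ ≫ fst (Red.bc F G) D) * ((ψ ≫ snd (Red.bc F G) D ≫ a.inv) ≫ (Over.pullback F).map i) *
          (ψ ≫ fst (Red.bc F G) D)⁻¹ = ψ ≫ conjFam i' := by
        rw [conjFam, MonObj.comp_mul, MonObj.comp_mul, GrpObj.comp_inv]
        simp only [i', Category.assoc]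
      rw [e]
      show (conjFam i').left (P.left.fromSpecResidueField p₀ (IsLocalRing.closedPoint K)) ∈ V
      rw [Scheme.fromSpecResidueField_apply]
      exact hp₀V
    haveI : UniversallyOpen Z.hom := (inferInstance : GrpField.PointBase (Spec (CommRingCat.of k))).uopen K _
    have hopen : IsOpen ((fst G Z).left '' (O : Set (G ⊗ Z).left)) := by
      haveI : UniversallyOpen (fst G Z).left := inferInstanceAs (UniversallyOpen (pullback.fst G.hom Z.hom))
      exact (fst G Z).left.isOpenMap _ O.2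
    obtain ⟨-, ⟨h₀, hh₀, rfl⟩, z, hzO, hzx⟩ :=
      (PtsDense.dense_rational k G.hom).exists_mem_open hopen ⟨_, _, hO, rfl⟩
    let h : 𝟙_ (Over (Spec (CommRingCat.of k))) ⟶ G := Over.homMk h₀ hh₀
    have hz : z = (lift (toUnit Z ≫ h) (𝟙 Z)).left (IsLocalRing.closedPoint K) := by
      obtain ⟨w, -, hw⟩ : ∃ w, (fst (𝟙_ _) Z).left w = IsLocalRing.closedPoint k ∧ (h ▷ Z).left w = z :=
        Scheme.exists_preimage_of_isPullback (Assoc.isPullback_whiskerRight (Z := Z) h)
          (IsLocalRing.closedPoint k) z hzx.symm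
      have e : (h ▷ Z) = snd (𝟙_ _) Z ≫ lift (toUnit Z ≫ h) (𝟙 Z) := by
        apply CartesianMonoidalCategory.hom_ext
        · simp only [whiskerRight_fst, Category.assoc, lift_fst]
          rw [← Category.assoc]
          congr 1
          exact toUnit_unique _ _
        · simp
      haveI : Subsingleton Z.left := inferInstanceAs (Subsingleton (PrimeSpectrum K))
      rw [← hw, e, Over.comp_left, Scheme.Hom.comp_apply]
      congr 1
      exact Subsingleton.elim _ _
    refine ⟨h, (toBC F b ≫ a.hom).left (IsLocalRing.closedPoint K), ?_, ?_⟩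
    · have h1 : β z ∈ V := hzO
      rw [hz, ← Scheme.Hom.comp_apply, hβ] at h1
      rw [← Scheme.Hom.comp_apply, ← Over.comp_left]
      have e : (toBC F b ≫ a.hom) ≫ Φ h = toBC F ((toUnit Z ≫ h) * (b ≫ i) * (toUnit Z ≫ h)⁻¹) := by
        simp only [Φ, Category.assoc, Iso.hom_inv_id_assoc]
        rw [← toBC_comp, point_conjBy]
      rw [e]
      exact h1
    · rw [← Scheme.Hom.comp_apply]
      refine (congrArg (fun m => m (IsLocalRing.closedPoint K)) (Over.w (toBC F b ≫ a.hom))).trans ?_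
      show P.hom (P.left.fromSpecResidueField p₀ (IsLocalRing.closedPoint K)) = s
      rw [Scheme.fromSpecResidueField_apply]
      exact hp₀s
  -- glue
  let Y : Over (Spec (CommRingCat.of k)) := Over.mk (pullback.fst X.hom F ≫ X.hom)
  let p : Y ⟶ X := Over.homMk (pullback.fst X.hom F) rfl
  haveI : Flat p.left := MorphismProperty.pullback_fst (P := @Flat) _ _ ‹_›
  haveI : Surjective p.left := MorphismProperty.pullback_fst (P := @Surjective) _ _ inferInstance
  haveI := RedR1.epi_of_flat_surjective p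
  rw [← cancel_epi p, MonObj.comp_mul, MonObj.comp_mul]
  refine Over.OverMorphism.ext ?_
  choose U hyU hU using fun y : Y.left =>
    exists_nhd_central_of_family hconnW i' (fun _ => Red.DS (W : Scheme.{u}) (Fin r → ℤ)) Φ hdense
      (pullback.snd X.hom F y)
  refine Scheme.Cover.hom_ext (Scheme.openCoverOfIsOpenCover Y.left (fun y => pullback.snd X.hom F ⁻¹ᵁ U y)
    (eq_top_iff.2 fun y _ => TopologicalSpace.Opens.mem_iSup.2 ⟨y, hyU y⟩)) _ _ fun y => ?_
  show (pullback.snd X.hom F ⁻¹ᵁ U y).ι ≫ _ = (pullback.snd X.hom F ⁻¹ᵁ U y).ι ≫ _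
  let O := pullback.snd X.hom F ⁻¹ᵁ U y
  let XW : Over (W : Scheme.{u}) := Over.mk (O.ι ≫ pullback.snd X.hom F)
  have hXW : Set.range XW.hom ⊆ (U y : Set (W : Scheme.{u})) := by
    rintro _ ⟨o, rfl⟩
    exact o.2
  let px : (Over.map F).obj XW ⟶ Y := Over.homMk O.ι (by
    show O.ι ≫ pullback.fst X.hom F ≫ X.hom = (O.ι ≫ pullback.snd X.hom F) ≫ F
    rw [pullback.condition, Category.assoc])
  obtain ⟨t₁, ht₁⟩ := hg 1
  have hone : ∀ {Z : Over (Spec (CommRingCat.of k))} (z : Z ⟶ T), z ≫ AGF.conjBy 1 i = z ≫ i := fun z => by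
    rw [point_conjBy, MonObj.comp_one, inv_one, _root_.one_mul, _root_.mul_one]
  rw [hone] at ht₁
  let x₁ : XW ⟶ Red.DS (W : Scheme.{u}) (Fin r → ℤ) := toBC F (px ≫ p ≫ t₁) ≫ a.hom
  have hx₁ : x₁ ≫ i' = toBC F (px ≫ p ≫ g) := by
    simp only [x₁, i', Category.assoc, Iso.hom_inv_id_assoc]
    rw [← toBC_comp, Category.assoc, Category.assoc, ht₁]
  have hfin := hU y XW hXW x₁ (fun X' q h t => by
    rw [Category.assoc, hx₁]
    obtain ⟨th, hth⟩ := hg h
    obtain ⟨t', ht'⟩ := exists_toBC' F (t ≫ a.inv)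
    rw [show t ≫ Φ h = toBC F (t' ≫ AGF.conjBy h i) by rw [toBC_comp, ht', Category.assoc], ← toBC_naturality,
      ← toBC_mul, ← toBC_mul]
    congr 1
    rw [← hth, ← Category.assoc px, ← Category.assoc (px ≫ p), ← Category.assoc, point_conjBy, point_conjBy]
    simp only [_root_.mul_assoc, inv_mul_cancel_left]
    rw [← _root_.mul_assoc (_ ≫ i), ← _root_.mul_assoc (t' ≫ i), ← MonObj.mul_comp, ← MonObj.mul_comp,
      RedR1.mul_comm_torus hi.2.2.1]) (toBC F (px ≫ p ≫ v))
  rw [hx₁, ← toBC_mul, ← toBC_mul] at hfin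
  have h4 := congrArg (fun m => m.left) (toBC_inj F hfin)
  simpa only [← MonObj.comp_mul, Over.comp_left, px, Over.homMk_left] using h4

end Groth.Agent.RedCartan
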